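import Cfsg.Agent.OddOrder.BG9.LocalFrattini
import Cfsg.Agent.PLocal.GlaubermanThompson
import Cfsg.Agent.Transfer.NormalPComplement
import Cfsg.Agent.Characters.Burnside
import Mathlib.GroupTheory.SemidirectProduct
import Mathlib.GroupTheory.Perm.Cycle.Type

/-!
# The theorem of Hughes, Kegel and Thompson

If a finite group `H` has a normal subgroup `G` of prime index `p` with every element outside `G` of
order `p`, then `G` is nilpotent. Hence a group with a splitting automorphism of prime order is
nilpotent.
-/

set_option autoImplicit false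
set_option linter.style.haveILetI false

namespace CfsgLib.HughesThompson

open Subgroup

universe u

section Module

variable {N : Type*} [CommGroup N]

/-- If `T ≤ Aut N` has order prime to `|N|` and there is a family of automorphisms `γ t` with trivial
norm whose `j`-th powers run over the coset `T b ^ j`, then `T` is trivial. -/
theorem eq_bot_of_norms (p : ℕ) (hp : 0 < p) (T : Subgroup (MulAut N)) [Finite T]
    (hcop : (Nat.card T).Coprime (Nat.card N)) (b : MulAut N) (γ : T → MulAut N)
    (hb : ∀ v, ∏ i ∈ Finset.range p, (b ^ i) v = 1)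
    (hγ : ∀ t v, ∏ i ∈ Finset.range p, (γ t ^ i) v = 1)
    (he : ∀ j, 1 ≤ j → j < p → ∃ e : T → T, Function.Bijective e ∧
      ∀ t, γ t ^ j = (e t : MulAut N) * b ^ j) : T = ⊥ := by
  classical
  haveI := Fintype.ofFinite T
  obtain ⟨q, rfl⟩ : ∃ q, p = q + 1 := ⟨p - 1, by omega⟩
  let S : N → N := fun w => ∏ t : T, (t : MulAut N) w
  have hS1 : S 1 = 1 := Finset.prod_eq_one fun t _ => map_one _
  have hSmul : ∀ x y, S (x * y) = S x * S y := fun x y => by
    simp only [S, map_mul, Finset.prod_mul_distrib]
  let Sh : N →* N := { toFun := S, map_one' := hS1, map_mul' := hSmul }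
  have hfix : ∀ v, v ^ Nat.card T = S v := by
    intro v
    have h1 : ∏ t : T, ∏ i ∈ Finset.range (q + 1), (γ t ^ i) v = 1 :=
      Finset.prod_eq_one fun t _ => hγ t v
    rw [Finset.prod_comm, Finset.prod_range_succ'] at h1
    have h2 : ∀ i ∈ Finset.range q, ∏ t : T, (γ t ^ (i + 1)) v = Sh ((b ^ (i + 1)) v) := by
      intro i hi
      rw [Finset.mem_range] at hi
      obtain ⟨e, hebij, he'⟩ := he (i + 1) (by omega) (by omega)
      show _ = ∏ t : T, (t : MulAut N) ((b ^ (i + 1)) v)
      exact Fintype.prod_bijective e hebij _ _ fun t => by rw [he']; rfl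
    rw [Finset.prod_congr rfl h2, ← map_prod] at h1
    have h3 : ∏ t : T, (γ t ^ 0) v = v ^ Nat.card T := by
      simp only [pow_zero, MulAut.one_apply, Finset.prod_const, Finset.card_univ,
        Nat.card_eq_fintype_card]
    rw [h3] at h1
    have h4 := congrArg Sh (hb v)
    rw [Finset.prod_range_succ', map_mul, map_one, pow_zero, MulAut.one_apply] at h4
    exact mul_left_cancel (h1.trans h4.symm)
  rw [eq_bot_iff]
  intro u hu
  rw [Subgroup.mem_bot]
  refine MulEquiv.ext fun v => ?_
  have hu' : u (S v) = S v := by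
    simp only [S, map_prod]
    exact Fintype.prod_bijective (fun t => (⟨u, hu⟩ : T) * t)
      (Group.mulLeft_bijective (⟨u, hu⟩ : T)) _ _ fun t => rfl
  have h5 : (u v) ^ Nat.card T = v ^ Nat.card T := by rw [← map_pow, hfix, hu']
  exact (powCoprime hcop.symm).injective h5

end Module

/-- Every element outside `G` has order dividing `p`. -/
def OuterExp {H : Type u} [Group H] (p : ℕ) (G : Subgroup H) : Prop := ∀ x ∉ G, x ^ p = 1

open scoped IsMulCommutative in
/-- Powers of a product, as a twisted product. -/
theorem mul_pow_eq {H : Type u} [Group H] (G : Subgroup H) [G.Normal] [IsMulCommutative G]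
    (v : G) (x : H) : ∀ k : ℕ, ((v : H) * x) ^ k =
      ((∏ i ∈ Finset.range k, (MulAut.conjNormal x ^ i : MulAut G) v : G) : H) * x ^ k := by
  intro k
  induction k with
  | zero => simp
  | succ k ih =>
    rw [pow_succ, ih, Finset.prod_range_succ, Subgroup.coe_mul, ← map_pow,
      MulAut.conjNormal_apply, pow_succ]
    group

open scoped IsMulCommutative in
theorem norm_eq_one {H : Type u} [Group H] {p : ℕ} {G : Subgroup H} (hG : OuterExp p G)
    (N : Subgroup H) [N.Normal] [IsMulCommutative N] (hNG : N ≤ G) {x : H} (hx : x ∉ G) (v : N) :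
    ∏ i ∈ Finset.range p, (MulAut.conjNormal x ^ i : MulAut N) v = 1 := by
  have hvx : (v : H) * x ∉ G := fun h => hx ((G.mul_mem_cancel_left (hNG v.2)).mp h)
  have h := mul_pow_eq N v x p
  rw [hG _ hvx, hG x hx, mul_one] at h
  exact Subtype.ext h.symm

open scoped IsMulCommutative in
/-- Sylow subgroups for the other primes centralise an abelian normal subgroup of exponent `r`. -/
theorem le_centralizer_of_outerExp {H : Type u} [Group H] [Finite H] {p : ℕ} [Fact p.Prime]
    {G : Subgroup H} (hG : OuterExp p G) {r : ℕ} [Fact r.Prime] (N : Subgroup H) [N.Normal]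
    [IsMulCommutative N] (hNG : N ≤ G) (hN : IsPGroup r N) {s : ℕ} [Fact s.Prime] (hsr : s ≠ r)
    (S : Subgroup H) (hS : IsPGroup s S) (hSG : S ≤ G) {b : H} (hb : b ∉ G)
    (hbS : b ∈ normalizer (S : Set H)) : S ≤ centralizer (N : Set H) := by
  classical
  open scoped IsMulCommutative in
  suffices hbot : S.map (MulAut.conjNormal : H →* MulAut N) = ⊥ by
    intro y hy
    rw [mem_centralizer_iff]
    intro n hn
    have h1 : (MulAut.conjNormal : H →* MulAut N) y = 1 :=
      mem_bot.mp (hbot ▸ mem_map_of_mem _ hy)
    have h2 := congrArg Subtype.val (DFunLike.congr_fun h1 ⟨n, hn⟩)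
    rw [MulAut.conjNormal_apply, MulAut.one_apply] at h2
    exact (mul_inv_eq_iff_eq_mul.mp h2).symm
  open scoped IsMulCommutative in
  have hnorm : ∀ x ∉ G, ∀ v : N, ∏ i ∈ Finset.range p, (MulAut.conjNormal x ^ i : MulAut N) v = 1 :=
    fun x hx v => norm_eq_one hG N hNG hx v
  set θ : H →* MulAut N := MulAut.conjNormal with hθ
  set T := S.map θ with hT
  have hTp : IsPGroup s T := hS.map θ
  have hcopN : ∀ U : Subgroup (MulAut N), IsPGroup s U → (Nat.card U).Coprime (Nat.card N) := by
    intro U hU
    obtain ⟨i, hi⟩ := IsPGroup.iff_card.mp hU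
    obtain ⟨j, hj⟩ := IsPGroup.iff_card.mp hN
    rw [hi, hj]
    exact ((Nat.coprime_primes Fact.out Fact.out).mpr hsr).pow i j
  have hp : p.Prime := Fact.out
  set β := θ b with hβ
  have hnormT : ∀ t ∈ T, β * t * β⁻¹ ∈ T := by
    rintro _ ⟨y, hy, rfl⟩
    exact ⟨b * y * b⁻¹, (mem_normalizer_iff.mp hbS y).mp hy, by rw [map_mul, map_mul, map_inv]⟩
  have hout : ∀ y ∈ S, y * b ∉ G := fun y hy h => hb ((G.mul_mem_cancel_left (hSG hy)).mp h)
  -- elements of `T` commuting with `β` have order `p`
  have hcomm : ∀ t ∈ T, Commute t β → t ^ p = 1 := by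
    rintro _ ⟨y, hy, rfl⟩ hc
    have h1 : θ (y * b) ^ p = 1 := by rw [← map_pow, hG _ (hout y hy), map_one]
    rwa [map_mul, hc.mul_pow, show θ b ^ p = 1 by rw [← map_pow, hG b hb, map_one], mul_one] at h1
  by_cases hsp : s = p
  · subst hsp
    by_contra hne
    haveI : Nontrivial T := (nontrivial_iff_ne_bot T).mpr hne
    haveI := Fintype.ofFinite T
    let σ : Equiv.Perm T :=
      { toFun := fun t => ⟨β * t * β⁻¹, hnormT t t.2⟩
        invFun := fun t => ⟨β⁻¹ * t * β, by
          obtain ⟨y, hy, e⟩ := t.2
          rw [← e, hβ, ← map_inv, ← map_mul, ← map_mul]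
          refine ⟨b⁻¹ * y * b, ?_, rfl⟩
          have := (mem_normalizer_iff.mp ((normalizer (S : Set H)).inv_mem hbS) y).mp hy
          simpa using this⟩
        left_inv := fun t => Subtype.ext (by group)
        right_inv := fun t => Subtype.ext (by group) }
    have hσk : ∀ k t, ((σ ^ k) t : MulAut N) = β ^ k * (t : MulAut N) * (β ^ k)⁻¹ := by
      intro k
      induction k with
      | zero => simp
      | succ k ih =>
        intro t
        rw [pow_succ', Equiv.Perm.mul_apply]
        show β * ((σ ^ k) t : MulAut N) * β⁻¹ = _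
        rw [ih, pow_succ']
        group
    have hσ : σ ^ s ^ 1 = 1 := Equiv.ext fun t => Subtype.ext (by
      rw [pow_one, hσk, hβ, ← map_pow, hG b hb, map_one, one_mul, inv_one, mul_one]
      rfl)
    have hdvd : s ∣ Fintype.card T := by
      obtain ⟨i, hi⟩ := IsPGroup.iff_card.mp hTp
      rw [← Nat.card_eq_fintype_card, hi]
      refine dvd_pow_self s fun h => ?_
      rw [h, pow_zero] at hi
      exact (Finite.one_lt_card (α := T)).ne' hi
    obtain ⟨z, hz, hz1⟩ := Equiv.Perm.exists_fixed_point_of_prime' hdvd hσ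
      (a := (1 : T)) (Subtype.ext (by show β * 1 * β⁻¹ = 1; group))
    have hzc : Commute (z : MulAut N) β := by
      have h := congrArg Subtype.val hz
      exact (mul_inv_eq_iff_eq_mul.mp h).symm
    have hzp : (z : MulAut N) ^ s = 1 := hcomm _ z.2 hzc
    have hord : orderOf (z : MulAut N) = s :=
      orderOf_eq_prime hzp fun h => hz1 (Subtype.ext h)
    have hγv : ∀ t ∈ zpowers (z : MulAut N), ∀ v, ∏ i ∈ Finset.range s, ((t * β) ^ i) v = 1 := by
      intro t ht v
      obtain ⟨y, hy, e⟩ := (zpowers_le.mpr z.2 ht : t ∈ T)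
      rw [← e, hβ, ← map_mul]
      exact hnorm _ (hout y hy) v
    open scoped IsMulCommutative in
    have hbot := eq_bot_of_norms s hp.pos (zpowers (z : MulAut N))
      (hcopN _ (IsPGroup.of_card (n := 1) (by rw [Nat.card_zpowers, hord, pow_one]))) β
      (fun t => (t : MulAut N) * β) (fun v => hnorm b hb v) (fun t v => hγv t t.2 v) fun j hj hj' => by
        refine ⟨fun t => t ^ j, (powCoprime (G := zpowers (z : MulAut N)) ?_).bijective, fun t => ?_⟩
        · rw [Nat.card_zpowers, hord]
          exact (hp.coprime_iff_not_dvd).mpr (Nat.not_dvd_of_pos_of_lt hj hj')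
        · obtain ⟨k, hk⟩ := t.2
          rw [SubmonoidClass.coe_pow, ← Commute.mul_pow]
          rw [← hk]
          exact hzc.zpow_left k
    exact hz1 (Subtype.ext (zpowers_eq_bot.mp hbot))
  · have hfpf : ∀ t ∈ T, Commute t β → t = 1 := by
      intro t ht hc
      obtain ⟨i, hi⟩ := hTp ⟨t, ht⟩
      have h1 : t ^ s ^ i = 1 := congrArg Subtype.val hi
      have h2 : orderOf t ∣ Nat.gcd (s ^ i) p :=
        Nat.dvd_gcd (orderOf_dvd_of_pow_eq_one h1) (orderOf_dvd_of_pow_eq_one (hcomm t ht hc))
      rw [Nat.Coprime.gcd_eq_one (((Nat.coprime_primes Fact.out hp).mpr hsp).pow_left i),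
        Nat.dvd_one, orderOf_eq_one_iff] at h2
      exact h2
    have hconj : ∀ j, ∀ t ∈ T, β ^ j * t * (β ^ j)⁻¹ ∈ T := by
      intro j
      induction j with
      | zero => intro t ht; simpa using ht
      | succ j ih =>
        intro t ht
        rw [pow_succ']
        have := hnormT _ (ih t ht)
        simpa [mul_assoc] using this
    open scoped IsMulCommutative in
    refine eq_bot_of_norms p hp.pos T (hcopN T hTp) β (fun t => (t : MulAut N) * β * (t : MulAut N)⁻¹)
      (fun v => hnorm b hb v) (fun t v => ?_) fun j hj hj' => ?_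
    · obtain ⟨y, hy, e⟩ := t.2
      rw [← e, hβ, ← map_inv, ← map_mul, ← map_mul]
      refine hnorm _ (fun h => hb ?_) v
      exact (G.mul_mem_cancel_left (hSG hy)).mp
        ((G.mul_mem_cancel_right (G.inv_mem (hSG hy))).mp h)
    · let e : T → T := fun t => t * ⟨β ^ j * ((t⁻¹ : T) : MulAut N) * (β ^ j)⁻¹, hconj j _ (t⁻¹).2⟩
      have hinj : Function.Injective e := by
        intro t t' h
        have h' : (t : MulAut N) * (β ^ j * (t : MulAut N)⁻¹ * (β ^ j)⁻¹) =
            (t' : MulAut N) * (β ^ j * (t' : MulAut N)⁻¹ * (β ^ j)⁻¹) := congrArg Subtype.val h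
        have hc : Commute ((t' : MulAut N)⁻¹ * t) (β ^ j) := by
          show (t' : MulAut N)⁻¹ * t * β ^ j = β ^ j * ((t' : MulAut N)⁻¹ * t)
          calc (t' : MulAut N)⁻¹ * t * β ^ j
              = (t' : MulAut N)⁻¹ * ((t : MulAut N) * (β ^ j * (t : MulAut N)⁻¹ * (β ^ j)⁻¹)) *
                  β ^ j * t := by group
            _ = _ := by rw [h']; group
        obtain ⟨a, ha⟩ : ∃ a, (β ^ j) ^ a = β := by
          have hβp : β ^ p = 1 := by rw [hβ, ← map_pow, hG b hb, map_one]
          exact exists_pow_eq_self_of_coprime (((hp.coprime_iff_not_dvd).mpr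
            (Nat.not_dvd_of_pos_of_lt hj hj')).symm.coprime_dvd_right
              (orderOf_dvd_of_pow_eq_one hβp))
        have := hfpf _ (T.mul_mem (T.inv_mem t'.2) t.2) (ha ▸ hc.pow_right a)
        exact Subtype.ext (inv_mul_eq_one.mp this).symm
      refine ⟨e, Finite.injective_iff_bijective.mp hinj, fun t => ?_⟩
      show ((t : MulAut N) * β * (t : MulAut N)⁻¹) ^ j =
        (t : MulAut N) * (β ^ j * (t : MulAut N)⁻¹ * (β ^ j)⁻¹) * β ^ j
      rw [conj_pow]
      group

theorem frattini_not_le {H : Type u} [Group H] [Finite H] {G : Subgroup H} [G.Normal] (hG : G ≠ ⊤)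
    {q : ℕ} [Fact q.Prime] (P : Sylow q G) :
    ∃ b ∉ G, b ∈ normalizer ((P : Subgroup G).map G.subtype : Set H) := by
  by_contra h
  simp only [not_exists, not_and] at h
  refine hG (top_le_iff.mp ((Sylow.normalizer_sup_eq_top P).ge.trans (sup_le ?_ le_rfl)))
  exact fun x hx => by_contra fun hxG => h x hxG hx

/-- **Hughes–Thompson**: a normal subgroup of prime index with all outside elements of order `p` is
nilpotent. -/
theorem isNilpotent_of_outerExp (p : ℕ) [Fact p.Prime] (n : ℕ) :
    ∀ (H : Type u) [Group H] [Finite H] (G : Subgroup H) [G.Normal], Nat.card H = n →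
      G.index = p → OuterExp p G → Group.IsNilpotent G := by
  induction n using Nat.strong_induction_on with
  | _ n ih =>
    intro H _ _ G _ hcard hidx hG
    classical
    have hp : p.Prime := Fact.out
    have hGtop : G ≠ ⊤ := fun h => hp.one_lt.ne (by rw [← hidx, h, index_top])
    -- proper subgroups not contained in `G`
    have hsubgrp : ∀ K : Subgroup H, K ≠ ⊤ → ¬ K ≤ G → Group.IsNilpotent (K ⊓ G : Subgroup H) := by
      intro K hK hKG
      have hlt : Nat.card K < n := by
        rw [← hcard]
        refine lt_of_le_of_ne (Nat.le_of_dvd Nat.card_pos K.card_subgroup_dvd_card) fun h => hK ?_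
        exact Subgroup.eq_top_of_card_eq K h
      have hidx' : (G.subgroupOf K).index = p := by
        have h1 : G.relIndex K ∣ p := hidx ▸ relIndex_dvd_index_of_normal G K
        exact ((Nat.dvd_prime hp).mp h1).resolve_left fun h => hKG (relIndex_eq_one.mp h)
      have h := ih _ hlt K (G.subgroupOf K) rfl hidx' fun x hx => Subtype.ext (hG (x : H) hx)
      haveI := h
      let e : (G.subgroupOf K) ≃* (K ⊓ G : Subgroup H) :=
        { toFun := fun x => ⟨(x : K), (x : K).2, x.2⟩
          invFun := fun x => ⟨⟨x, x.2.1⟩, x.2.2⟩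
          left_inv := fun _ => rfl
          right_inv := fun _ => rfl
          map_mul' := fun _ _ => rfl }
      exact Group.nilpotent_of_mulEquiv e
    -- quotients
    have hquot : ∀ N : Subgroup H, N.Normal → N ≠ ⊥ → N ≤ G →
        ∀ [N.Normal], Group.IsNilpotent (G.map (QuotientGroup.mk' N)) := by
      intro N hN hNb hNG _
      have hlt : Nat.card (H ⧸ N) < n := by
        rw [← hcard, Subgroup.card_eq_card_quotient_mul_card_subgroup N]
        exact lt_mul_of_one_lt_right Nat.card_pos ((one_lt_card_iff_ne_bot N).mpr hNb)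
      haveI : (G.map (QuotientGroup.mk' N)).Normal :=
        Normal.map inferInstance _ (QuotientGroup.mk'_surjective N)
      have hmem : ∀ x : H, QuotientGroup.mk' N x ∈ G.map (QuotientGroup.mk' N) → x ∈ G := by
        rintro x ⟨g, hg, e⟩
        have h2 := hNG (QuotientGroup.eq.mp e)
        have := G.mul_mem hg h2
        rwa [mul_inv_cancel_left] at this
      refine ih _ hlt (H ⧸ N) _ rfl ?_ fun x hx => ?_
      · rw [index_map_eq _ (QuotientGroup.mk'_surjective N) (by rwa [QuotientGroup.ker_mk']), hidx]
      · obtain ⟨y, rfl⟩ := QuotientGroup.mk'_surjective N x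
        rw [← map_pow, hG y fun h => hx ⟨y, h, rfl⟩, map_one]
    rcases eq_or_ne G ⊥ with rfl | hGne
    · infer_instance
    -- solvability
    have hsolv : Group.IsSolvable G := by
      by_cases hex : ∃ N : Subgroup H, N.Normal ∧ N ≠ ⊥ ∧ N < G
      · obtain ⟨N, hN, hNb, hNG⟩ := hex
        haveI := hN
        haveI : Group.IsNilpotent N := by
          obtain ⟨x, hx⟩ : ∃ x, x ∉ G := by
            by_contra h
            simp only [not_exists, not_not] at h
            exact hGtop (eq_top_iff.mpr fun x _ => h x)
          have hK : N ⊔ zpowers x ≠ ⊤ := by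
            intro h
            have hxp : orderOf x ∣ p := orderOf_dvd_of_pow_eq_one (hG x hx)
            have h1 : Nat.card (N ⊔ zpowers x : Subgroup H) ≤ Nat.card N * p := by
              refine le_trans ?_ (Nat.mul_le_mul_left _ (Nat.le_of_dvd hp.pos
                ((Nat.card_zpowers x).symm ▸ hxp : Nat.card (zpowers x) ∣ p)))
              have e1 := relIndex_mul_relIndex (⊥ : Subgroup H) N (N ⊔ zpowers x) bot_le le_sup_left
              rw [relIndex_bot_left, relIndex_bot_left, sup_comm, relIndex_sup_right] at e1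
              rw [sup_comm, ← e1]
              exact Nat.mul_le_mul_left _ (Nat.le_of_dvd Nat.card_pos (relIndex_dvd_card N (zpowers x)))
            rw [h, card_top, ← Subgroup.index_mul_card G, hidx, mul_comm] at h1
            exact absurd (Nat.le_of_mul_le_mul_right h1 hp.pos)
              (not_le.mpr (lt_of_le_of_ne (Nat.le_of_dvd Nat.card_pos (card_dvd_of_le hNG.le))
                fun e => hNG.ne (eq_of_le_of_card_ge hNG.le e.ge)))
          haveI := hsubgrp _ hK fun h => hx (h (le_sup_right (a := N) (mem_zpowers x)))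
          exact Subgroup.isNilpotent_of_ker_le_center (Subgroup.inclusion (le_inf (le_sup_left : N ≤ N ⊔ zpowers x) hNG.le))
            (le_of_eq_of_le ((MonoidHom.ker_eq_bot_iff _).mpr (Subgroup.inclusion_injective _)) bot_le)
        haveI := hquot N hN hNb hNG.le
        haveI : Group.IsSolvable N := inferInstance
        haveI : Group.IsSolvable (G.map (QuotientGroup.mk' N)) := inferInstance
        refine Group.isSolvable_of_ker_le_range (Subgroup.inclusion hNG.le)
          ((QuotientGroup.mk' N).subgroupMap G) (fun x hx => ?_)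
        exact ⟨⟨(x : H), (QuotientGroup.eq_one_iff _).mp (congrArg Subtype.val hx)⟩, rfl⟩
      · simp only [not_exists, not_and] at hex
        have hnone : ∀ N : Subgroup H, N.Normal → N ≤ G → N = ⊥ ∨ N = G := by
          intro N hN hle
          by_contra h
          rw [not_or] at h
          exact hex N hN h.1 (lt_of_le_of_ne hle h.2)
        by_contra hns
        obtain ⟨q, hq, hqd, hq2, hqp⟩ :
            ∃ q, q.Prime ∧ q ∣ Nat.card G ∧ q ≠ 2 ∧ q ≠ p := by
          by_contra h
          simp only [not_exists, not_and] at h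
          obtain ⟨a, b, hab⟩ : ∃ a b, Nat.card G ∣ 2 ^ a * p ^ b := by
            refine ⟨Nat.card G, Nat.card G, ?_⟩
            refine (Nat.factorization_prime_le_iff_dvd Nat.card_pos.ne'
              (mul_ne_zero (by positivity) (pow_ne_zero _ hp.ne_zero))).mp fun q hq => ?_
            by_cases hqd : q ∣ Nat.card G
            · refine (Nat.factorization_lt q Nat.card_pos.ne').le.trans ?_
              rw [Nat.factorization_mul (by positivity) (pow_ne_zero _ hp.ne_zero),
                Finsupp.add_apply, Nat.factorization_pow, Nat.factorization_pow,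
                Finsupp.smul_apply, Finsupp.smul_apply]
              rcases em (q = 2) with rfl | hq2
              · rw [Nat.prime_two.factorization_self]; simp
              · rw [not_not.mp (h q hq hqd hq2), hp.factorization_self]; simp
            · rw [Nat.factorization_eq_zero_of_not_dvd hqd]; exact Nat.zero_le _
          exact hns (CfsgLib.Characters.burnside_paqb_aux 2 p Nat.prime_two hp _ G rfl ⟨a, b, hab⟩)
        haveI := Fact.mk hq
        obtain ⟨P⟩ := Sylow.nonempty (p := q) (G := G)
        obtain ⟨b, hbG, hbP⟩ := frattini_not_le hGtop P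
        set Z := Cfsg.centerThompsonOf q ((P : Subgroup G).map G.subtype) with hZ
        have hZmap : (Cfsg.centerThompsonOf q (P : Subgroup G)).map G.subtype = Z :=
          CfsgLib.OddOrder.ZJ.map_centerThompsonOf G.subtype_injective.injOn
        have hPne : (P : Subgroup G) ≠ ⊥ := by
          intro h
          exact P.not_dvd_index (by rw [h, index_bot]; exact hqd)
        have hZG : Z ≤ G := hZmap ▸ map_subtype_le _
        have hZne : Z ≠ ⊥ := by
          rw [← hZmap, Ne, map_eq_bot_iff_of_injective _ G.subtype_injective]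
          exact CfsgLib.OddOrder.centerThompsonOf_ne_bot P.isPGroup' hPne
        have hbZ : b ∈ normalizer (Z : Set H) :=
          CfsgLib.OddOrder.normalizer_le_normalizer_centerThompsonOf q _ hbP
        by_cases hNtop : normalizer (Z : Set H) = ⊤
        · have hZn := normalizer_eq_top_iff.mp hNtop
          have hZeq := (hnone Z hZn hZG).resolve_left hZne
          have hGq : IsPGroup q G := by
            have : (⊤ : Subgroup G) ≤ P := by
              intro x _
              have hx : (x : H) ∈ (Cfsg.centerThompsonOf q (P : Subgroup G)).map G.subtype := by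
                rw [hZmap, hZeq]; exact x.2
              obtain ⟨y, hy, e⟩ := hx
              exact (Subtype.ext e : y = x) ▸ CfsgLib.OddOrder.centerThompsonOf_le q _ hy
            intro g
            obtain ⟨k, hk⟩ := P.isPGroup' ⟨g, this (mem_top g)⟩
            exact ⟨k, congrArg Subtype.val hk⟩
          haveI := hGq.isNilpotent
          exact hns inferInstance
        haveI := hsubgrp _ hNtop fun h => hbG (h hbZ)
        let U : Subgroup G := normalizer (Cfsg.centerThompsonOf q (P : Subgroup G) : Set G)
        have hU : ∀ x : U, ((x : G) : H) ∈ normalizer (Z : Set H) ⊓ G := fun x => by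
          refine ⟨?_, x.1.2⟩
          rw [← hZmap]
          exact le_normalizer_map G.subtype (mem_map_of_mem G.subtype x.2)
        haveI : Group.IsNilpotent U :=
          Subgroup.isNilpotent_of_ker_le_center ((G.subtype.comp U.subtype).codRestrict _ hU)
            (le_of_eq_of_le ((MonoidHom.ker_eq_bot_iff _).mpr fun x y h =>
              Subtype.ext (Subtype.ext (congrArg (fun z : (normalizer (Z : Set H) ⊓ G : Subgroup H) => (z : H)) h))) bot_le)
        have hpc : Cfsg.HasNormalPComplement q G :=
          (CfsgLib.PLocal.hasNormalPComplement_iff_normalizer_centerThompsonOf hq2 P).mpr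
            CfsgLib.Transfer.hasNormalPComplement_of_isNilpotent
        obtain ⟨P', C, hC, hcompl⟩ := hpc
        haveI := hC
        have hCcop : ∀ x : G, x ∈ C ↔ (orderOf x).Coprime q := by
          have hcard : (Nat.card C).Coprime q := by
            rw [← hcompl.index_eq_card, Nat.coprime_comm, hq.coprime_iff_not_dvd]
            exact P'.not_dvd_index
          intro x
          refine ⟨fun hx => Nat.Coprime.coprime_dvd_left ?_ hcard, fun hx => ?_⟩
          · exact (Subgroup.orderOf_coe ⟨x, hx⟩ ▸ orderOf_dvd_natCard _)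
          · obtain ⟨i, hi⟩ := IsPGroup.iff_card.mp P'.isPGroup'
            have h1 : orderOf (QuotientGroup.mk' C x) ∣ Nat.gcd (orderOf x) (q ^ i) := by
              refine Nat.dvd_gcd (orderOf_map_dvd _ x) ?_
              rw [← hi, ← hcompl.symm.index_eq_card]
              exact orderOf_dvd_natCard _
            rw [(hx.pow_right i).gcd_eq_one, Nat.dvd_one, orderOf_eq_one_iff] at h1
            exact (QuotientGroup.eq_one_iff x).mp h1
        have hCn : (C.map G.subtype).Normal := ⟨by
          rintro _ ⟨x, hx, rfl⟩ h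
          refine ⟨⟨h * (x : H) * h⁻¹, Subgroup.Normal.conj_mem inferInstance _ x.2 h⟩,
            (hCcop _).mpr ?_, rfl⟩
          have he : orderOf (⟨h * (x : H) * h⁻¹, Subgroup.Normal.conj_mem inferInstance _ x.2 h⟩ : G)
              = orderOf x := by
            rw [← Subgroup.orderOf_coe, ← Subgroup.orderOf_coe x]
            exact MulEquiv.orderOf_eq (MulAut.conj h) (x : H)
          rw [he]
          exact (hCcop x).mp hx⟩
        rcases hnone _ hCn (map_subtype_le C) with h | h
        · have hCbot : C = ⊥ := (map_eq_bot_iff_of_injective _ G.subtype_injective).mp h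
          have hGq : IsPGroup q G := by
            rw [IsPGroup.iff_card]
            obtain ⟨i, hi⟩ := IsPGroup.iff_card.mp P'.isPGroup'
            exact ⟨i, by rw [← hi, ← hcompl.card_mul_card, hCbot, card_bot, one_mul]⟩
          haveI := hGq.isNilpotent
          exact hns inferInstance
        · have hCtop : C = ⊤ := by
            apply map_injective G.subtype_injective
            rw [h, ← MonoidHom.range_eq_map, range_subtype]
          obtain ⟨x, hx⟩ := exists_prime_orderOf_dvd_card' (G := G) q hqd
          have := (hCcop x).mp (hCtop ▸ mem_top x)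
          rw [hx, Nat.coprime_self] at this
          exact hq.one_lt.ne' this
    -- an abelian normal subgroup of prime exponent
    obtain ⟨A, hA, hAG, hAb, hAc⟩ : ∃ A : Subgroup H, A.Normal ∧ A ≤ G ∧ A ≠ ⊥ ∧
        ∀ x ∈ A, ∀ y ∈ A, x * y = y * x := by
      obtain ⟨k, hk⟩ := (Group.isSolvable_def G).mp hsolv
      have hex : ∃ k, derivedSeries G (k + 1) = ⊥ := ⟨k, le_bot_iff.mp (hk ▸ derivedSeries_antitone G k.le_succ)⟩
      refine ⟨(derivedSeries G (Nat.find hex)).map G.subtype, ?_, map_subtype_le _, ?_, ?_⟩
      · haveI : (derivedSeries G (Nat.find hex)).Characteristic := inferInstance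
        exact inferInstance
      · rw [Ne, map_eq_bot_iff_of_injective _ G.subtype_injective]
        intro h
        rcases Nat.eq_zero_or_pos (Nat.find hex) with h0 | h0
        · rw [h0, derivedSeries_zero] at h
          exact hGne (by rw [← range_subtype G, MonoidHom.range_eq_map, h, Subgroup.map_bot])
        · have := Nat.find_min hex (m := Nat.find hex - 1) (by omega)
          rw [Nat.sub_add_cancel h0] at this
          exact this h
      · rintro _ ⟨x, hx, rfl⟩ _ ⟨y, hy, rfl⟩
        have h1 := Nat.find_spec hex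
        rw [derivedSeries_succ, commutator_eq_bot_iff_le_centralizer] at h1
        rw [← map_mul, ← map_mul, mem_centralizer_iff.mp (h1 hy) x hx]
    obtain ⟨r, hr, hrd⟩ := Nat.exists_prime_and_dvd (n := Nat.card A)
      fun h => hAb (Subgroup.card_eq_one.mp h)
    haveI := Fact.mk hr
    haveI := hA
    let N : Subgroup H :=
      { carrier := {x | x ∈ A ∧ x ^ r = 1}
        one_mem' := ⟨one_mem A, one_pow r⟩
        mul_mem' := fun {x y} hx hy => ⟨mul_mem hx.1 hy.1, by
          rw [Commute.mul_pow (hAc x hx.1 y hy.1), hx.2, hy.2, one_mul]⟩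
        inv_mem' := fun {x} hx => ⟨inv_mem hx.1, by rw [inv_pow, hx.2, inv_one]⟩ }
    haveI hNn : N.Normal := ⟨fun x hx h => ⟨hA.conj_mem x hx.1 h, by
      rw [conj_pow, hx.2, mul_one, mul_inv_cancel]⟩⟩
    haveI : IsMulCommutative N := ⟨⟨fun x y => Subtype.ext (hAc x.1 x.2.1 y.1 y.2.1)⟩⟩
    have hNp : IsPGroup r N := fun x => ⟨1, Subtype.ext (by rw [pow_one]; exact x.2.2)⟩
    have hNG : N ≤ G := fun x hx => hAG hx.1
    have hNb : N ≠ ⊥ := by
      obtain ⟨x, hx⟩ := exists_prime_orderOf_dvd_card' (G := A) r hrd
      intro h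
      have h1 : (x : H) ∈ N := ⟨x.2, by rw [← hx]; exact congrArg Subtype.val (pow_orderOf_eq_one x)⟩
      rw [h, mem_bot] at h1
      rw [show x = 1 from Subtype.ext h1, orderOf_one] at hx
      exact hr.one_lt.ne hx
    haveI hQn := hquot N hNn hNb hNG
    -- every Sylow subgroup is normal
    refine ((Group.isNilpotent_of_finite_tfae (G := G)).out 3 0).mp ?_
    intro s _ P
    let f := (QuotientGroup.mk' N).subgroupMap G
    have hf : Function.Surjective f := MonoidHom.subgroupMap_surjective _ _
    haveI : (P.mapSurjective hf : Subgroup (G.map (QuotientGroup.mk' N))).Normal :=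
      ((Group.isNilpotent_of_finite_tfae (G := G.map (QuotientGroup.mk' N))).out 0 3
        (a := Group.IsNilpotent (G.map (QuotientGroup.mk' N)))
        (b := ∀ (p : ℕ) (_hp : Fact p.Prime) (Q : Sylow p (G.map (QuotientGroup.mk' N))),
          (Q : Subgroup (G.map (QuotientGroup.mk' N))).Normal) rfl rfl).mp hQn s
        inferInstance (P.mapSurjective hf)
    have hker : ∀ x : G, f x = 1 → (x : H) ∈ N := fun x hx =>
      (QuotientGroup.eq_one_iff _).mp (congrArg Subtype.val hx)
    have hconj : ∀ g : G, ∀ x ∈ (P : Subgroup G), ∃ y ∈ (P : Subgroup G),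
        f (g * x * g⁻¹) = f y := by
      intro g x hx
      have h1 : f x ∈ (P.mapSurjective hf : Subgroup _) := ⟨x, hx, rfl⟩
      obtain ⟨y, hy, e⟩ := Subgroup.Normal.conj_mem inferInstance _ h1 (f g)
      exact ⟨y, hy, by rw [map_mul, map_mul, map_inv]; exact e.symm⟩
    by_cases hsr : s = r
    · subst hsr
      haveI := Normal.subgroupOf hNn G
      have hNP : N.subgroupOf G ≤ P := sup_eq_left.mp (P.is_maximal'
        (P.isPGroup'.to_sup_of_normal_right (hNp.comap_of_injective G.subtype G.subtype_injective))
        le_sup_left)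
      refine ⟨fun x hx g => ?_⟩
      obtain ⟨y, hy, e⟩ := hconj g x hx
      have h2 : y⁻¹ * (g * x * g⁻¹) ∈ N.subgroupOf G :=
        hker (y⁻¹ * (g * x * g⁻¹)) (by rw [map_mul f y⁻¹, map_inv, e, inv_mul_cancel])
      have := (P : Subgroup G).mul_mem hy (hNP h2)
      rwa [mul_inv_cancel_left] at this
    · obtain ⟨b, hbG, hbP⟩ := frattini_not_le hGtop P
      have hcent := le_centralizer_of_outerExp hG N hNG hNp hsr _ (P.isPGroup'.map G.subtype)
        (map_subtype_le _) hbG hbP
      refine ⟨fun x hx g => ?_⟩
      obtain ⟨y, hy, e⟩ := hconj g x hx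
      have h2 : (((g * x * g⁻¹)⁻¹ * y : G) : H) ∈ N :=
        hker _ (by rw [map_mul f (g * x * g⁻¹)⁻¹, map_inv, e, inv_mul_cancel])
      -- `P` is normalised by the elements of the group it generates with `N`
      obtain ⟨i, hi⟩ := P.isPGroup' ⟨x, hx⟩
      obtain ⟨j, hj⟩ := P.isPGroup' ⟨y, hy⟩
      set z := g * x * g⁻¹ with hz
      set w := y⁻¹ * z with hw
      have hwN : (w : H) ∈ N := by
        have h3 := N.inv_mem h2
        rwa [← Subgroup.coe_inv, mul_inv_rev, inv_inv] at h3
      have hcomm : Commute (y : G) w := Subtype.ext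
        (mem_centralizer_iff.mp (hcent (mem_map_of_mem G.subtype hy)) (w : H) hwN).symm
      have hzyw : z = y * w := (mul_inv_cancel_left y z).symm
      have hzs : z ^ s ^ (i + j) = 1 := by
        have h1 : x ^ s ^ i = 1 := congrArg Subtype.val hi
        rw [hz, conj_pow, pow_add, pow_mul, h1, one_pow, mul_one, mul_inv_cancel]
      have hys : y ^ s ^ (i + j) = 1 := by
        have h1 : y ^ s ^ j = 1 := congrArg Subtype.val hj
        rw [pow_add, mul_comm, pow_mul, h1, one_pow]
      rw [hzyw, hcomm.mul_pow, hys, one_mul] at hzs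
      have hwr : w ^ r = 1 := Subtype.ext (by rw [SubmonoidClass.coe_pow]; exact hwN.2)
      have hw1 : w = 1 := by
        have h1 : orderOf w ∣ Nat.gcd (s ^ (i + j)) r :=
          Nat.dvd_gcd (orderOf_dvd_of_pow_eq_one hzs) (orderOf_dvd_of_pow_eq_one hwr)
        rwa [Nat.Coprime.gcd_eq_one (((Nat.coprime_primes Fact.out hr).mpr hsr).pow_left _),
          Nat.dvd_one, orderOf_eq_one_iff] at h1
      rw [hzyw, hw1, mul_one]
      exact hy

/-- A group with a splitting automorphism of prime order is nilpotent. -/
theorem isNilpotent_of_splitting {G : Type u} [Group G] [Finite G] (α : MulAut G)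
    (hp : (orderOf α).Prime)
    (hsplit : ∀ x : G, (((List.range (orderOf α)).map (fun i : ℕ => (α ^ i) x)).prod = 1)) :
    Group.IsNilpotent G := by
  classical
  set p := orderOf α with hpdef
  haveI := Fact.mk hp
  haveI : Finite (MulAut G) := Finite.of_injective _ DFunLike.coe_injective
  let φ : zpowers α →* MulAut G := (zpowers α).subtype
  haveI : Finite (G ⋊[φ] zpowers α) := Finite.of_equiv _ SemidirectProduct.equivProd.symm
  let K : Subgroup (G ⋊[φ] zpowers α) := SemidirectProduct.rightHom.ker
  have hidx : K.index = p := by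
    rw [index_ker, MonoidHom.range_eq_top.mpr SemidirectProduct.rightHom_surjective, card_top,
      Nat.card_zpowers]
  let a : zpowers α := ⟨α, mem_zpowers α⟩
  have hpow : ∀ (x : G) (k : ℕ), (⟨x, a⟩ : G ⋊[φ] zpowers α) ^ k =
      ⟨((List.range k).map fun i : ℕ => (α ^ i) x).prod, a ^ k⟩ := by
    intro x k
    induction k with
    | zero => rfl
    | succ k ih =>
      rw [pow_succ, ih, List.range_succ, List.map_append, List.prod_append, pow_succ a]
      refine SemidirectProduct.ext ?_ rfl
      simp [SemidirectProduct.mul_left, φ, a]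
  have ha : ∀ x : G, (⟨x, a⟩ : G ⋊[φ] zpowers α) ^ p = 1 := fun x => by
    rw [hpow, hsplit]
    exact SemidirectProduct.ext rfl (Subtype.ext (pow_orderOf_eq_one α))
  have hG : OuterExp p K := by
    intro y hy
    have hone : orderOf a = p := Subgroup.orderOf_mk ..
    obtain ⟨i, hi⟩ : ∃ i : ℕ, a ^ i = y.right := by
      obtain ⟨i, hi⟩ : (y.right : MulAut G) ∈ Submonoid.powers α :=
        mem_powers_iff_mem_zpowers.mpr y.right.2
      exact ⟨i, Subtype.ext hi⟩
    have hip : i.Coprime p := by
      rw [Nat.coprime_comm, hp.coprime_iff_not_dvd]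
      intro hd
      refine hy ?_
      rw [← hone, orderOf_dvd_iff_pow_eq_one] at hd
      show y.right = 1
      rw [← hi, hd]
    obtain ⟨k, hk⟩ : ∃ k : ℕ, (a ^ i) ^ k = a := exists_pow_eq_self_of_coprime (hone ▸ hip)
    have hkm : ∀ m : ℕ, (y ^ p) ^ (k + m * p) = 1 := by
      intro m
      have hr : (y ^ (k + m * p)).right = a := by
        show SemidirectProduct.rightHom (y ^ (k + m * p)) = a
        rw [map_pow]
        show y.right ^ (k + m * p) = a
        rw [← hi, pow_add, hk, mul_comm m p, ← pow_mul, ← mul_assoc, mul_comm i p, mul_assoc, pow_mul, ← hone,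
          pow_orderOf_eq_one, one_pow, mul_one]
      rw [← pow_mul, mul_comm, pow_mul]
      have h := ha (y ^ (k + m * p)).left
      rwa [show (⟨(y ^ (k + m * p)).left, a⟩ : G ⋊[φ] zpowers α) = y ^ (k + m * p) from
        SemidirectProduct.ext rfl hr.symm] at h
    have h0 := hkm 0
    have h1 := hkm 1
    rw [zero_mul, add_zero] at h0
    rw [one_mul, pow_add, h0, one_mul] at h1
    have hcop : k.Coprime p := by
      rw [Nat.coprime_comm, hp.coprime_iff_not_dvd]
      intro hd
      obtain ⟨c, rfl⟩ := hd
      have : a = 1 := by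
        rw [← hk, ← pow_mul, show i * (p * c) = p * (i * c) by ring, pow_mul, ← hone,
          pow_orderOf_eq_one, one_pow]
      rw [this, orderOf_one] at hone
      exact hp.one_lt.ne hone
    have hd : orderOf (y ^ p) ∣ Nat.gcd k p :=
      Nat.dvd_gcd (orderOf_dvd_of_pow_eq_one h0) (orderOf_dvd_of_pow_eq_one h1)
    rwa [hcop.gcd_eq_one, Nat.dvd_one, orderOf_eq_one_iff] at hd
  haveI := isNilpotent_of_outerExp p _ (G ⋊[φ] zpowers α) K rfl hidx hG
  refine Subgroup.isNilpotent_of_ker_le_center
    ((SemidirectProduct.inl : G →* G ⋊[φ] zpowers α).codRestrict K fun x => by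
      show SemidirectProduct.rightHom (SemidirectProduct.inl x) = 1
      simp)
    (le_of_eq_of_le ((MonoidHom.ker_eq_bot_iff _).mpr fun x y h =>
      SemidirectProduct.inl_injective (congrArg Subtype.val h)) bot_le)

end CfsgLib.HughesThompson
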