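import Mathlib.GroupTheory.IsSubnormal
import Cfsg.Agent.Solvable.Basic

/-!
Joins of subnormal subgroups of finite groups.
* `le_normalizer_of_isSubnormal`: minimal normal subgroups normalise subnormal subgroups.
* `isSubnormal_sup`, `isSubnormal_sSup`: joins of subnormal subgroups are subnormal.
* `exists_mem_normalizer_sSup`: in a conjugation-closed family of subnormal subgroups, a proper
  subfamily has a member outside it normalising its join.
-/

open Pointwise

namespace CfsgLib.Subnormal

universe u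

variable {G : Type u} [Group G]

private theorem minimal_normal_aux (n : ℕ) : ∀ (G : Type u) [Group G] [Finite G], Nat.card G = n →
    ∀ (M S : Subgroup G), M.Normal → (∀ K : Subgroup G, K.Normal → K ≤ M → K = ⊥ ∨ K = M) →
      S.IsSubnormal → M ≤ Subgroup.normalizer (S : Set G) := by
  induction n using Nat.strongRecOn with | ind n ih => ?_
  intro G _ _ hn M S hM hmin hS
  rcases eq_or_ne S ⊤ with rfl | hne
  · rw [Subgroup.normalizer_eq_top]; exact le_top
  obtain ⟨N, hN, hSN, hlt⟩ := hS.exists_normal_and_le_and_lt_top_of_ne hne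
  rcases hmin (M ⊓ N) (Subgroup.normal_inf_normal M N) inf_le_left with h | h
  · refine le_trans ?_ (Subgroup.centralizer_le_normalizer _)
    refine le_trans ?_ (Subgroup.centralizer_le hSN)
    rw [← Subgroup.commutator_eq_bot_iff_le_centralizer]
    exact Subgroup.commutator_eq_bot_of_disjoint (disjoint_iff.mpr h)
  have hMN : M ≤ N := inf_eq_left.mp h
  rcases eq_or_ne M ⊥ with rfl | hMne
  · exact bot_le
  set T : Subgroup N := sSup {K : Subgroup N | K.Normal ∧ K ≠ ⊥ ∧
    ∀ L : Subgroup N, L.Normal → L ≤ K → L = ⊥ ∨ L = K} with hT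
  have hcard : Nat.card N < n := by
    rw [← hn, ← Subgroup.card_top (G := G)]
    exact Set.Finite.card_lt_card (Set.toFinite _) hlt
  have hTS : T ≤ Subgroup.normalizer (S.subgroupOf N : Set N) := sSup_le fun K hK =>
    ih _ hcard N rfl K (S.subgroupOf N) hK.1 hK.2.2 hS.subgroupOf
  have hTc : T.Characteristic := by
    refine Subgroup.characteristic_iff_map_le.mpr fun φ => ?_
    rw [hT]
    conv_lhs => rw [sSup_eq_iSup, Subgroup.map_iSup]
    refine iSup_le fun K => ?_
    rw [Subgroup.map_iSup]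
    refine iSup_le fun hK => le_sSup ?_
    refine ⟨hK.1.map _ φ.surjective, ?_, fun L hL hLK => ?_⟩
    · rw [Ne, Subgroup.map_eq_bot_iff_of_injective _ φ.injective]; exact hK.2.1
    · rcases hK.2.2 (L.comap φ.toMonoidHom) (hL.comap _) (by
        rw [← Subgroup.comap_map_eq_self_of_injective (f := φ.toMonoidHom) φ.injective K]
        exact Subgroup.comap_mono hLK) with h1 | h1
      · exact Or.inl (by rw [← Subgroup.map_comap_eq_self_of_surjective (f := φ.toMonoidHom) φ.surjective L]
                         rw [h1, Subgroup.map_bot])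
      · exact Or.inr (by rw [← Subgroup.map_comap_eq_self_of_surjective (f := φ.toMonoidHom) φ.surjective L, h1])
  have hMne' : M.subgroupOf N ≠ ⊥ := by
    rw [Ne, Subgroup.subgroupOf_eq_bot, disjoint_iff, inf_eq_left.mpr hMN]; exact hMne
  obtain ⟨K, hKn, hKne, hKM, hKmin⟩ := Solvable.exists_minimal_normal_le (hM.subgroupOf N) hMne'
  have hKT : K.map N.subtype ≤ M ⊓ T.map N.subtype := by
    refine le_inf ?_ (Subgroup.map_mono (le_sSup ⟨hKn, hKne, hKmin⟩))
    refine (Subgroup.map_mono hKM).trans ?_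
    rw [Subgroup.subgroupOf_map_subtype]
    exact inf_le_left
  rcases hmin (M ⊓ T.map N.subtype) (Subgroup.normal_inf_normal _ _) inf_le_left with h2 | h2
  · rw [h2, le_bot_iff, Subgroup.map_eq_bot_iff_of_injective _ N.subtype_injective] at hKT
    exact absurd hKT hKne
  refine (inf_eq_left.mp h2).trans ((Subgroup.map_mono hTS).trans ?_)
  refine (Subgroup.le_normalizer_map N.subtype).trans (le_of_eq ?_)
  rw [Subgroup.subgroupOf_map_subtype, inf_eq_left.mpr hSN]

/-- A minimal normal subgroup normalises every subnormal subgroup. -/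
theorem le_normalizer_of_isSubnormal [Finite G] {M S : Subgroup G} [M.Normal]
    (hmin : ∀ K : Subgroup G, K.Normal → K ≤ M → K = ⊥ ∨ K = M) (hS : S.IsSubnormal) :
    M ≤ Subgroup.normalizer (S : Set G) :=
  minimal_normal_aux _ G rfl M S inferInstance hmin hS

private theorem sup_aux (n : ℕ) : ∀ (G : Type u) [Group G] [Finite G], Nat.card G = n →
    ∀ A B : Subgroup G, A.IsSubnormal → B.IsSubnormal → (A ⊔ B).IsSubnormal := by
  induction n using Nat.strongRecOn with | ind n ih => ?_
  intro G _ _ hn A B hA hB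
  rcases subsingleton_or_nontrivial G with hG | hG
  · rw [Subsingleton.elim (A ⊔ B) ⊤]; exact Subgroup.IsSubnormal.top
  obtain ⟨M, hM, hne, hmin⟩ := Solvable.exists_minimal_normal (G := G)
  set f := QuotientGroup.mk' M
  have hlt : Nat.card (G ⧸ M) < n := by
    rw [← hn, ← M.index_eq_card, ← M.card_mul_index]
    exact lt_mul_of_one_lt_left (Nat.pos_of_ne_zero Subgroup.index_ne_zero_of_finite)
      (M.one_lt_card_iff_ne_bot.mpr hne)
  have hK : (A ⊔ B ⊔ M).IsSubnormal := by
    have := (ih _ hlt (G ⧸ M) rfl (A.map f) (B.map f) hA.quotient hB.quotient).comap f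
    rwa [← Subgroup.map_sup, Subgroup.comap_map_eq, QuotientGroup.ker_mk'] at this
  by_cases htop : A ⊔ B ⊔ M = ⊤
  · refine Subgroup.Normal.isSubnormal (Subgroup.normalizer_eq_top_iff.mp (top_le_iff.mp ?_))
    rw [← htop]
    refine sup_le Subgroup.le_normalizer ?_
    exact (le_inf (le_normalizer_of_isSubnormal hmin hA) (le_normalizer_of_isSubnormal hmin hB)).trans
      (Subgroup.normalizer_inf_normalizer_le_normalizer_sup A B)
  · set K := A ⊔ B ⊔ M with hKdef
    have hle : A ⊔ B ≤ K := le_sup_left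
    have hlt2 : Nat.card K < n := by
      rw [← hn, ← Subgroup.card_top (G := G)]
      have h3 : K < ⊤ := lt_top_iff_ne_top.mpr htop
      exact Set.Finite.card_lt_card (Set.toFinite _) h3
    refine Subgroup.IsSubnormal.trans hle ?_ hK
    rw [Subgroup.subgroupOf_sup (le_sup_left.trans hle) (le_sup_right.trans hle)]
    exact ih _ hlt2 K rfl _ _ hA.subgroupOf hB.subgroupOf

/-- The join of two subnormal subgroups of a finite group is subnormal. -/
theorem isSubnormal_sup [Finite G] {A B : Subgroup G} (hA : A.IsSubnormal) (hB : B.IsSubnormal) :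
    (A ⊔ B).IsSubnormal :=
  sup_aux _ G rfl A B hA hB

/-- The join of a family of subnormal subgroups of a finite group is subnormal. -/
theorem isSubnormal_sSup [Finite G] {S : Set (Subgroup G)} (h : ∀ U ∈ S, U.IsSubnormal) :
    (sSup S).IsSubnormal := by
  induction S, Set.toFinite S using Set.Finite.induction_on with
  | empty => simp
  | insert _ _ ih =>
    rw [sSup_insert]
    exact isSubnormal_sup (h _ (Set.mem_insert _ _)) (ih fun U hU => h U (Set.mem_insert_of_mem _ hU))

/-- A subnormal subgroup that is not normal has a different conjugate inside its normaliser. -/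
theorem exists_conj_le_normalizer {H : Subgroup G} (hH : H.IsSubnormal) (hn : ¬ H.Normal) :
    ∃ g : G, g ∉ Subgroup.normalizer (H : Set G) ∧
      MulAut.conj g • H ≤ Subgroup.normalizer (H : Set G) := by
  classical
  obtain ⟨n, f, hmono, hnorm, h0, htop⟩ := Subgroup.IsSubnormal.isSubnormal_iff.mp hH
  have hex : ∃ i, ¬ f i ≤ Subgroup.normalizer (H : Set G) := ⟨n, by
    rw [htop, top_le_iff, Subgroup.normalizer_eq_top_iff]; exact hn⟩
  have hspec := Nat.find_spec hex
  obtain ⟨j, hj⟩ : ∃ j, Nat.find hex = j + 1 :=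
    Nat.exists_eq_succ_of_ne_zero fun h => hspec (by rw [h, h0]; exact Subgroup.le_normalizer)
  rw [hj] at hspec
  obtain ⟨g, hg, hgn⟩ := SetLike.not_le_iff_exists.mp hspec
  refine ⟨g, hgn, ?_⟩
  have hjle : f j ≤ Subgroup.normalizer (H : Set G) := not_not.mp (Nat.find_min hex (by omega))
  have hjn := (Subgroup.normal_subgroupOf_iff_le_normalizer (hmono (Nat.le_succ j))).mp (hnorm j) hg
  intro x hx
  rw [Solvable.mem_conj_smul] at hx
  have h1 : g⁻¹ * x * g ∈ f j := h0 ▸ hmono (Nat.zero_le j) <| hx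
  refine hjle ?_
  have h2 := (Subgroup.mem_normalizer_iff.mp hjn _).mp h1
  simpa [mul_assoc] using h2

/-- In a conjugation-closed family of subnormal subgroups, a proper subfamily has a member outside
it that normalises the join of the subfamily. -/
theorem exists_mem_normalizer_sSup [Finite G] {S S₀ : Set (Subgroup G)}
    (hS : ∀ U ∈ S, U.IsSubnormal) (hconj : ∀ U ∈ S, ∀ g : G, MulAut.conj g • U ∈ S) (h₀ : S₀ ⊂ S) :
    ∃ X ∈ S, X ∉ S₀ ∧ X ≤ Subgroup.normalizer ((sSup S₀ : Subgroup G) : Set G) := by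
  obtain ⟨X, hX, hX0⟩ := Set.exists_of_ssubset h₀
  set H := sSup S₀ with hH
  by_cases hn : H.Normal
  · exact ⟨X, hX, hX0, by rw [Subgroup.normalizer_eq_top]; exact le_top⟩
  obtain ⟨g, hg, hgle⟩ :=
    exists_conj_le_normalizer (isSubnormal_sSup fun U hU => hS U (h₀.subset hU)) hn
  have hne : ¬ MulAut.conj g • H ≤ H := fun hle => hg (by
    rw [Solvable.mem_normalizer_iff_conj_smul]
    exact Subgroup.eq_of_le_of_card_ge hle (Solvable.card_conj_smul g H).ge)
  obtain ⟨U, hU, hUne⟩ : ∃ U ∈ S₀, ¬ MulAut.conj g • U ≤ H := by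
    by_contra hcon
    refine hne ?_
    rw [Subgroup.pointwise_smul_subset_iff]
    refine sSup_le fun U hU => ?_
    rw [← Subgroup.pointwise_smul_subset_iff]
    exact not_not.mp fun h => hcon ⟨U, hU, h⟩
  refine ⟨MulAut.conj g • U, hconj U (h₀.subset hU) g, fun h => hUne (le_sSup h), ?_⟩
  exact (Subgroup.pointwise_smul_le_pointwise_smul_iff.mpr (le_sSup hU)).trans hgle

/-- The form of `exists_mem_normalizer_sSup` inside a subgroup `V`. -/
theorem exists_mem_normalizer_sSup_le [Finite G] {V : Subgroup G} {S S₀ : Set (Subgroup G)}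
    (hle : ∀ U ∈ S, U ≤ V) (hS : ∀ U ∈ S, (U.subgroupOf V).IsSubnormal)
    (hconj : ∀ U ∈ S, ∀ v ∈ V, MulAut.conj v • U ∈ S) (h₀ : S₀ ⊂ S) :
    ∃ X ∈ S, X ∉ S₀ ∧ X ≤ Subgroup.normalizer ((sSup S₀ : Subgroup G) : Set G) := by
  have hinj : ∀ U ∈ S, ∀ W ∈ S, U.subgroupOf V = W.subgroupOf V → U = W := fun U hU W hW h => by
    rwa [Subgroup.subgroupOf_inj, inf_eq_left.mpr (hle U hU), inf_eq_left.mpr (hle W hW)] at h
  obtain ⟨_, ⟨X, hX, rfl⟩, hX0, hXle⟩ := exists_mem_normalizer_sSup
    (S := (fun U : Subgroup G => U.subgroupOf V) '' S)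
    (S₀ := (fun U : Subgroup G => U.subgroupOf V) '' S₀)
    (by rintro _ ⟨U, hU, rfl⟩; exact hS U hU)
    (by
      rintro _ ⟨U, hU, rfl⟩ v
      exact ⟨MulAut.conj (v : G) • U, hconj U hU v v.2,
        (Subgroup.conj_smul_subgroupOf (hle U hU) v).symm⟩)
    ⟨Set.image_mono h₀.subset, fun h => by
      obtain ⟨X, hX, hX0⟩ := Set.exists_of_ssubset h₀
      obtain ⟨W, hW, hWX⟩ := h ⟨X, hX, rfl⟩
      exact hX0 (hinj W (h₀.subset hW) X hX hWX ▸ hW)⟩
  refine ⟨X, hX, fun h => hX0 ⟨X, h, rfl⟩, ?_⟩
  have hjoin : (sSup ((fun U : Subgroup G => U.subgroupOf V) '' S₀)).map V.subtype = sSup S₀ := by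
    rw [sSup_image, sSup_eq_iSup]
    simp only [Subgroup.map_iSup]
    refine iSup_congr fun U => iSup_congr fun hU => ?_
    rw [Subgroup.subgroupOf_map_subtype, inf_eq_left.mpr (hle U (h₀.subset hU))]
  rw [← hjoin]
  refine le_trans ?_ (Subgroup.le_normalizer_map V.subtype)
  have := Subgroup.map_mono (f := V.subtype) hXle
  rwa [Subgroup.subgroupOf_map_subtype, inf_eq_left.mpr (hle X hX)] at this

end CfsgLib.Subnormal
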