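import Mathlib.GroupTheory.IsSubnormal
import Mathlib.GroupTheory.QuotientGroup.Basic
import Mathlib.GroupTheory.Index
import Mathlib.Algebra.Group.Subgroup.Pointwise
import Mathlib.Order.Atoms.Finite
import Mathlib.GroupTheory.Sylow
import Mathlib.Tactic

/-!
# The Wielandt zipper lemma

`isSubnormal_sup`: the product of two subnormal subgroups, one normalising the other, is subnormal.
`existsUnique_maximal`: a subgroup subnormal in every proper subgroup containing it, but not
subnormal in `G`, lies in exactly one maximal subgroup.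
-/

set_option autoImplicit false

namespace CfsgLib.SubnormalZipper

open Subgroup

variable {G : Type*} [Group G]

/-- Subnormality inside subgroups is transitive. -/
theorem subgroupOf_trans {X Y W : Subgroup G} (hXY : X ≤ Y) (hYW : Y ≤ W)
    (h1 : (X.subgroupOf Y).IsSubnormal) (h2 : (Y.subgroupOf W).IsSubnormal) :
    (X.subgroupOf W).IsSubnormal := by
  have hle : X.subgroupOf W ≤ Y.subgroupOf W := fun x hx => hXY hx
  refine IsSubnormal.trans hle ?_ h2
  let f : Y.subgroupOf W →* Y := (W.subtype.comp (Y.subgroupOf W).subtype).codRestrict Y fun x => x.2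
  exact h1.comap f

/-- A subgroup subnormal in `Y` is subnormal in a subgroup between. -/
theorem subgroupOf_of_le {X Y W : Subgroup G} (hWY : W ≤ Y)
    (h : (X.subgroupOf Y).IsSubnormal) : (X.subgroupOf W).IsSubnormal :=
  h.comap (Subgroup.inclusion hWY)

theorem subgroupOf_of_isSubnormal {X : Subgroup G} (h : X.IsSubnormal) (W : Subgroup G) :
    (X.subgroupOf W).IsSubnormal := h.subgroupOf

theorem subgroupOf_of_normalizes {X W : Subgroup G} (h : W ≤ normalizer (X : Set G)) :
    (X.subgroupOf W).IsSubnormal := by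
  refine Normal.isSubnormal ⟨fun x hx g => ?_⟩
  exact ((mem_normalizer_iff.mp (h g.2)) (x : G)).mp hx

/-- Conjugation respects relative subnormality. -/
theorem subgroupOf_map {X W : Subgroup G} (e : MulAut G) (h : (X.subgroupOf W).IsSubnormal) :
    ((X.map e.toMonoidHom).subgroupOf (W.map e.toMonoidHom)).IsSubnormal := by
  let f : W.map e.toMonoidHom →* W := (e.symm.toMonoidHom.comp
    (W.map e.toMonoidHom).subtype).codRestrict W fun x => by
      obtain ⟨y, hy, e'⟩ := x.2
      show e.symm (x : G) ∈ W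
      rw [← e']
      simpa using hy
  convert h.comap f using 1
  ext x
  show (x : G) ∈ X.map e.toMonoidHom ↔ e.symm (x : G) ∈ X
  constructor
  · rintro ⟨y, hy, e'⟩
    rw [← e']
    simpa using hy
  · intro hx
    exact ⟨_, hx, by simp⟩

theorem isSubnormal_map {X : Subgroup G} (e : MulAut G) (h : X.IsSubnormal) :
    (X.map e.toMonoidHom).IsSubnormal :=
  h.map e.surjective

variable [Finite G]

/-- The product of two subnormal subgroups is subnormal when one normalises the other. -/
theorem subgroupOf_sup_aux {S T : Subgroup G} (hT : T.IsSubnormal)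
    (hTS : T ≤ normalizer (S : Set G)) :
    ∀ n : ℕ, ∀ H : Subgroup G, Nat.card H = n → S ≤ H → T ≤ normalizer (H : Set G) →
      (S.subgroupOf H).IsSubnormal → ((S ⊔ T).subgroupOf (H ⊔ T)).IsSubnormal := by
  intro n
  induction n using Nat.strong_induction_on with
  | _ n ih =>
    intro H hn hSH hTH hsn
    rcases eq_or_ne S H with rfl | hne
    · rw [subgroupOf_self]
      exact Normal.isSubnormal (inferInstance : (⊤ : Subgroup ↥(S ⊔ T)).Normal)
    set N := closure {x : G | ∃ h ∈ H, ∃ s ∈ S, x = h * s * h⁻¹} with hN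
    have hSN : S ≤ N := fun s hs => subset_closure ⟨1, one_mem _, s, hs, by simp⟩
    have hNH : N ≤ H := by
      rw [hN, closure_le]
      rintro _ ⟨h, hh, s, hs, rfl⟩
      exact H.mul_mem (H.mul_mem hh (hSH hs)) (H.inv_mem hh)
    have hlt : N < H := by
      refine lt_of_le_of_ne hNH fun he => ?_
      rcases hsn.lt_normal with htop | ⟨K, hK, hSK, hKlt⟩
      · exact hne (le_antisymm hSH (subgroupOf_eq_top.mp htop))
      · refine hKlt.ne (top_le_iff.mp fun x _ => ?_)
        have hx : (x : G) ∈ K.map H.subtype := by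
          have hNK : N ≤ K.map H.subtype := by
            rw [hN, closure_le]
            rintro _ ⟨h, hh, s, hs, rfl⟩
            exact ⟨⟨h, hh⟩ * ⟨s, hSH hs⟩ * ⟨h, hh⟩⁻¹, hK.conj_mem ⟨s, hSH hs⟩ (hSK hs) ⟨h, hh⟩, rfl⟩
          exact hNK (he.ge x.2)
        obtain ⟨y, hy, e⟩ := hx
        exact (Subtype.ext e : y = x) ▸ hy
    have hTN : T ≤ normalizer (N : Set G) := by
      intro t ht
      rw [mem_normalizer_iff]
      have key : ∀ t ∈ T, ∀ y ∈ N, t * y * t⁻¹ ∈ N := by
        intro t ht
        suffices N ≤ N.comap (MulAut.conj t).toMonoidHom from fun y hy => this hy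
        refine (closure_le _).mpr ?_
        rintro _ ⟨h, hh, s, hs, rfl⟩
        show t * (h * s * h⁻¹) * t⁻¹ ∈ N
        refine subset_closure ⟨t * h * t⁻¹, (mem_normalizer_iff.mp (hTH ht) h).mp hh,
          t * s * t⁻¹, (mem_normalizer_iff.mp (hTS ht) s).mp hs, by group⟩
      intro y
      refine ⟨key t ht y, fun hy => ?_⟩
      have := key t⁻¹ (inv_mem ht) _ hy
      simpa [mul_assoc] using this
    have hHN : H ≤ normalizer (N : Set G) := by
      intro a ha
      rw [mem_normalizer_iff]
      have key : ∀ a ∈ H, ∀ y ∈ N, a * y * a⁻¹ ∈ N := by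
        intro a ha
        suffices N ≤ N.comap (MulAut.conj a).toMonoidHom from fun y hy => this hy
        refine (closure_le _).mpr ?_
        rintro _ ⟨h, hh, s, hs, rfl⟩
        show a * (h * s * h⁻¹) * a⁻¹ ∈ N
        exact subset_closure ⟨a * h, H.mul_mem ha hh, s, hs, by group⟩
      intro y
      refine ⟨key a ha y, fun hy => ?_⟩
      have := key a⁻¹ (inv_mem ha) _ hy
      simpa [mul_assoc] using this
    have hcard : Nat.card N < n := hn ▸ lt_of_le_of_ne (Nat.le_of_dvd Nat.card_pos
      (card_dvd_of_le hNH)) fun e => hlt.ne (eq_of_le_of_card_ge hNH e.ge)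
    have h1 := ih _ hcard N rfl hSN hTN (subgroupOf_of_le hNH hsn)
    refine subgroupOf_trans (sup_le_sup_right hSN T) (sup_le_sup_right hNH T) h1 ?_
    set W := H ⊔ T
    haveI : (N.subgroupOf W).Normal := ⟨fun x hx g =>
      ((mem_normalizer_iff.mp ((sup_le hHN hTN) g.2)) (x : G)).mp hx⟩
    let q := QuotientGroup.mk' (N.subgroupOf W)
    have h2 := ((hT.subgroupOf (K := W)).map (QuotientGroup.mk'_surjective (N.subgroupOf W))).comap q
    rw [comap_map_eq, QuotientGroup.ker_mk'] at h2
    convert h2 using 1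
    rw [sup_comm (T.subgroupOf W), ← subgroupOf_sup (le_sup_of_le_left hNH) le_sup_right]

/-- The product of two subnormal subgroups is subnormal when one normalises the other. -/
theorem isSubnormal_sup {S T : Subgroup G} (hS : S.IsSubnormal) (hT : T.IsSubnormal)
    (hTS : T ≤ normalizer (S : Set G)) : (S ⊔ T).IsSubnormal := by
  have h := subgroupOf_sup_aux hT hTS _ ⊤ rfl le_top
    (fun t _ => by rw [mem_normalizer_iff]; simp) hS.subgroupOf
  rw [top_sup_eq] at h
  exact IsSubnormal.trans le_top h (Normal.isSubnormal inferInstance)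

/-- Relative form. -/
theorem subgroupOf_sup_isSubnormal {S T H : Subgroup G} (hSH : S ≤ H) (hTH : T ≤ H)
    (hS : (S.subgroupOf H).IsSubnormal) (hT : (T.subgroupOf H).IsSubnormal)
    (hTS : T ≤ normalizer (S : Set G)) : ((S ⊔ T).subgroupOf H).IsSubnormal := by
  rw [subgroupOf_sup hSH hTH]
  refine isSubnormal_sup hS hT fun t ht => ?_
  rw [mem_normalizer_iff]
  intro x
  exact mem_normalizer_iff.mp (hTS ht) (x : G)

/-- From a subgroup subnormal but not normal in `K`, a distinct `K`-conjugate normalising it. -/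
theorem exists_conj_le_normalizer {A K : Subgroup G} (hAK : A ≤ K)
    (hsn : (A.subgroupOf K).IsSubnormal) (hn : ¬ K ≤ normalizer (A : Set G)) :
    ∃ x ∈ K, A.map (MulAut.conj x).toMonoidHom ≠ A ∧
      A.map (MulAut.conj x).toMonoidHom ≤ normalizer (A : Set G) := by
  classical
  -- take `L ≤ K` minimal such that `A` is not normal in `L` but subnormal in it
  obtain ⟨L, ⟨hAL, hLK, hLsn, hLn⟩, hmin⟩ := wellFounded_lt.has_min
    {L : Subgroup G | A ≤ L ∧ L ≤ K ∧ (A.subgroupOf L).IsSubnormal ∧ ¬ L ≤ normalizer (A : Set G)}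
    ⟨K, hAK, le_rfl, hsn, hn⟩
  obtain ⟨x, hxL, hxn⟩ := SetLike.not_le_iff_exists.mp hLn
  refine ⟨x, hLK hxL, fun he => hxn ?_, ?_⟩
  · rw [mem_normalizer_iff]
    intro y
    constructor
    · intro hy
      rw [← he]
      exact ⟨y, hy, by simp⟩
    · intro hy
      rw [← he] at hy
      obtain ⟨z, hz, e⟩ := hy
      have : z = y := (MulAut.conj x).injective (by simpa using e)
      exact this ▸ hz
  · rcases hLsn.lt_normal with htop | ⟨N, hN, hAN, hNlt⟩
    · exact absurd ((subgroupOf_eq_top.mp htop).trans le_normalizer) hLn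
    · have hlt : N.map L.subtype < L := by
        refine lt_of_le_of_ne (map_subtype_le N) fun he => hNlt.ne ?_
        apply map_injective L.subtype_injective
        rw [he, ← MonoidHom.range_eq_map, range_subtype]
      have hAN' : A ≤ N.map L.subtype := fun a ha => ⟨⟨a, hAL ha⟩, hAN ha, rfl⟩
      have hle : N.map L.subtype ≤ normalizer (A : Set G) := by
        by_contra hno
        exact hmin _ ⟨hAN', hlt.le.trans hLK, subgroupOf_of_le hlt.le hLsn, hno⟩ hlt
      rintro _ ⟨a, ha, rfl⟩
      refine hle ⟨⟨x, hxL⟩ * ⟨a, hAL ha⟩ * ⟨x, hxL⟩⁻¹, hN.conj_mem _ (hAN ha) _, ?_⟩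
      simp

/-- **Wielandt's zipper lemma**. -/
theorem existsUnique_maximal {A : Subgroup G}
    (hsub : ∀ H : Subgroup G, A ≤ H → H ≠ ⊤ → (A.subgroupOf H).IsSubnormal)
    (hnot : ¬ A.IsSubnormal) : ∃! M : Subgroup G, IsCoatom M ∧ A ≤ M := by
  suffices ∀ n : ℕ, ∀ A : Subgroup G, A.index = n →
      (∀ H : Subgroup G, A ≤ H → H ≠ ⊤ → (A.subgroupOf H).IsSubnormal) →
      ¬ A.IsSubnormal → ∃! M : Subgroup G, IsCoatom M ∧ A ≤ M from this _ A rfl hsub hnot
  intro n
  induction n using Nat.strong_induction_on with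
  | _ n ih =>
    intro A hn hsub hnot
    have hNA : normalizer (A : Set G) ≠ ⊤ := fun h =>
      hnot (Normal.isSubnormal (normalizer_eq_top_iff.mp h))
    obtain ⟨M, hM, hNM⟩ := (eq_top_or_exists_le_coatom (normalizer (A : Set G))).resolve_left hNA
    refine ⟨M, ⟨hM, le_normalizer.trans hNM⟩, fun K ⟨hK, hAK⟩ => ?_⟩
    by_cases hKN : K ≤ normalizer (A : Set G)
    · exact (hK.le_iff_eq hM.1).mp (hKN.trans hNM) |>.symm
    obtain ⟨x, hxK, hne, hle⟩ := exists_conj_le_normalizer hAK (hsub K hAK hK.1) hKN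
    set A' := A.map (MulAut.conj x).toMonoidHom with hA'
    have hA'K : A' ≤ K := by
      rintro _ ⟨a, ha, rfl⟩
      simpa using K.mul_mem (K.mul_mem hxK (hAK ha)) (K.inv_mem hxK)
    have hsub' : ∀ H : Subgroup G, A' ≤ H → H ≠ ⊤ → (A'.subgroupOf H).IsSubnormal := by
      intro H hAH hH
      have e : H = (H.map (MulAut.conj x⁻¹).toMonoidHom).map (MulAut.conj x).toMonoidHom := by
        rw [map_map]
        convert (map_id H).symm
        ext y; simp [mul_assoc]
      rw [e]
      refine subgroupOf_map _ (hsub _ ?_ ?_)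
      · intro a ha
        refine ⟨x * a * x⁻¹, hAH ⟨a, ha, rfl⟩, ?_⟩
        simp [mul_assoc]
      · intro htop
        apply hH
        rw [e, htop, map_top_of_surjective]
        exact (MulAut.conj x).surjective
    have hlt : (A ⊔ A').index < n := by
      rw [← hn]
      refine lt_of_le_of_ne (Nat.le_of_dvd (Nat.pos_of_ne_zero A.index_ne_zero_of_finite)
        (index_dvd_of_le le_sup_left)) fun he => hne ?_
      have hc1 := A.index_mul_card
      have hc2 := (A ⊔ A').index_mul_card
      rw [he] at hc2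
      have : Nat.card (A ⊔ A' : Subgroup G) = Nat.card A :=
        Nat.eq_of_mul_eq_mul_left (Nat.pos_of_ne_zero A.index_ne_zero_of_finite)
          (hc2.trans hc1.symm)
      have heq : A = A ⊔ A' := eq_of_le_of_card_ge le_sup_left this.le
      refine eq_of_le_of_card_ge (le_sup_right.trans heq.ge) (le_of_eq ?_)
      exact Nat.card_congr (equivMapOfInjective A _ (MulAut.conj x).injective).toEquiv
    obtain ⟨M₀, -, huniq⟩ := ih _ hlt (A ⊔ A') rfl (fun H hH htop =>
      subgroupOf_sup_isSubnormal (le_sup_left.trans hH) (le_sup_right.trans hH)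
        (hsub H (le_sup_left.trans hH) htop) (hsub' H (le_sup_right.trans hH) htop) hle) (by
      intro hB
      exact hnot (IsSubnormal.trans le_sup_left
        (subgroupOf_of_normalizes (sup_le le_normalizer hle)) hB))
    rw [huniq K ⟨hK, sup_le hAK hA'K⟩,
      huniq M ⟨hM, sup_le (le_normalizer.trans hNM) (hle.trans hNM)⟩]

end CfsgLib.SubnormalZipper
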