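import Cfsg.Agent.Subnormal.Zipper
import Cfsg.Agent.Subnormal.Join
import Mathlib.Data.Set.Card

/-!
# A subgroup with full normal closure: full join or a unique maximal overgroup

If `A` has normal closure `G` and the join `Y` of the proper subgroups `X ⊇ A` generated by the
`X`-conjugates of `A` is proper, then `A` lies in exactly one maximal subgroup.

Proof by downward induction on `|A|`. For a counterexample every conjugate `B` of `A` has one
maximal subgroup `T B` containing its join and is subnormal in every other maximal subgroup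
containing it; by induction any subgroup generated by at least two conjugates and lying in two
maximal subgroups has two of its generators `B, C` with `T B ≠ T C` both containing it. A pair of
maximal subgroups whose intersection contains as many conjugates as possible then gives a
contradiction, since the normalizer of the join of those conjugates has to lie in both of them.
-/

set_option autoImplicit false
set_option linter.style.haveILetI false

namespace CfsgLib.JoinOrUnique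

open Subgroup CfsgLib.SubnormalZipper

variable {G : Type*} [Group G]

/-- `X` is generated by its own conjugates of `A`. -/
def Gen (A X : Subgroup G) : Prop :=
  A ≤ X ∧ normalClosure ((A.subgroupOf X : Subgroup X) : Set X) = ⊤

/-- The join of the proper such subgroups. -/
def joinGen (A : Subgroup G) : Subgroup G :=
  sSup {H : Subgroup G | A ≤ H ∧ H ≠ ⊤ ∧
    normalClosure ((A.subgroupOf H : Subgroup H) : Set H) = ⊤}

/-- The conjugate of a subgroup. -/
abbrev cj (x : G) (H : Subgroup G) : Subgroup G := H.map (MulAut.conj x).toMonoidHom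

theorem cj_cj (x y : G) (H : Subgroup G) : cj x (cj y H) = cj (x * y) H := by
  rw [cj, cj, map_map]
  congr 1
  ext g
  simp [mul_assoc]

theorem cj_one (H : Subgroup G) : cj (1 : G) H = H := by
  convert map_id H
  ext g
  simp

theorem cj_inv_cancel (x : G) (H : Subgroup G) : cj x⁻¹ (cj x H) = H := by
  rw [cj_cj, inv_mul_cancel, cj_one]

theorem cj_cancel_inv (x : G) (H : Subgroup G) : cj x (cj x⁻¹ H) = H := by
  rw [cj_cj, mul_inv_cancel, cj_one]

theorem cj_injective (x : G) : Function.Injective (cj x) := fun H K h => by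
  rw [← cj_inv_cancel x H, h, cj_inv_cancel]

theorem cj_le_cj {x : G} {H K : Subgroup G} (h : H ≤ K) : cj x H ≤ cj x K := map_mono h

theorem le_cj_iff {x : G} {H K : Subgroup G} : H ≤ cj x K ↔ cj x⁻¹ H ≤ K :=
  ⟨fun h => (cj_le_cj h).trans_eq (cj_inv_cancel x K),
    fun h => (cj_cancel_inv x H).symm.trans_le (cj_le_cj h)⟩

theorem card_cj (x : G) (H : Subgroup G) : Nat.card (cj x H) = Nat.card H :=
  (Nat.card_congr (equivMapOfInjective H _ (MulAut.conj x).injective).toEquiv).symm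

theorem cj_top (x : G) : cj x (⊤ : Subgroup G) = ⊤ :=
  map_top_of_surjective _ (MulAut.conj x).surjective

theorem cj_isCoatom {x : G} {M : Subgroup G} (h : IsCoatom M) : IsCoatom (cj x M) := by
  refine ⟨fun he => h.1 (cj_injective x (he.trans (cj_top x).symm)), fun K hK => ?_⟩
  have hlt : M < cj x⁻¹ K := by
    refine lt_of_le_of_ne ((cj_inv_cancel x M).symm.trans_le (cj_le_cj hK.le)) fun he => hK.ne ?_
    rw [he, cj_cancel_inv]
  rw [← cj_cancel_inv x K, h.2 _ hlt, cj_top]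

theorem cj_of_mem {x : G} {H : Subgroup G} (hx : x ∈ H) : cj x H = H := by
  have key : ∀ y ∈ H, cj y H ≤ H := by
    rintro y hy _ ⟨h, hh, rfl⟩
    simpa using H.mul_mem (H.mul_mem hy hh) (H.inv_mem hy)
  exact le_antisymm (key x hx) (le_cj_iff.mpr (key x⁻¹ (H.inv_mem hx)))

theorem mem_normalizer_of_cj_eq {x : G} {H : Subgroup G} (h : cj x H = H) :
    x ∈ normalizer (H : Set G) := by
  rw [mem_normalizer_iff]
  intro y
  constructor
  · intro hy
    rw [← h]
    exact ⟨y, hy, by simp⟩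
  · intro hy
    rw [← h] at hy
    obtain ⟨z, hz, e⟩ := hy
    have : z = y := (MulAut.conj x).injective (by simpa using e)
    exact this ▸ hz

theorem cj_eq_of_mem_normalizer {x : G} {H : Subgroup G} (h : x ∈ normalizer (H : Set G)) :
    cj x H = H := by
  ext y
  constructor
  · rintro ⟨z, hz, rfl⟩
    simpa using (mem_normalizer_iff.mp h z).mp hz
  · intro hy
    refine ⟨x⁻¹ * y * x, ?_, by simp [mul_assoc]⟩
    refine (mem_normalizer_iff.mp h _).mpr ?_
    simpa [mul_assoc] using hy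

theorem Gen.eq_of_isSubnormal {A X N : Subgroup G} (h : Gen A X) (hAN : A ≤ N) (hNX : N ≤ X)
    (hsn : (N.subgroupOf X).IsSubnormal) : N = X := by
  rcases hsn.lt_normal with htop | ⟨K, hK, hNK, hlt⟩
  · exact le_antisymm hNX (subgroupOf_eq_top.mp htop)
  · haveI := hK
    refine absurd ?_ hlt.ne
    rw [eq_top_iff, ← h.2]
    exact normalClosure_le_normal fun x hx => hNK (hAN hx)

theorem Gen.self (A : Subgroup G) : Gen A A :=
  ⟨le_rfl, by rw [subgroupOf_self, coe_top, eq_top_iff]; exact fun x _ => subset_normalClosure trivial⟩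

theorem Gen.trans {A D X : Subgroup G} (h₁ : Gen A D) (h₂ : Gen D X) : Gen A X := by
  refine ⟨h₁.1.trans h₂.1, ?_⟩
  set K := normalClosure ((A.subgroupOf X : Subgroup X) : Set X) with hK
  have hD : D.subgroupOf X ≤ K := by
    intro d hd
    have hle : normalClosure ((A.subgroupOf D : Subgroup D) : Set D) ≤
        K.comap (Subgroup.inclusion h₂.1) :=
      normalClosure_le_normal fun a ha => subset_normalClosure (s := ((A.subgroupOf X : Subgroup X) : Set X))
        (show Subgroup.inclusion h₂.1 a ∈ (A.subgroupOf X : Set X) from ha)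
    rw [h₁.2] at hle
    have hx : Subgroup.inclusion h₂.1 ⟨(d : G), hd⟩ ∈ K := hle (Subgroup.mem_top _)
    exact hx
  rw [eq_top_iff, ← h₂.2]
  exact normalClosure_le_normal hD

theorem gen_sSup {A : Subgroup G} {𝒳 : Set (Subgroup G)} (h : ∀ X ∈ 𝒳, Gen A X)
    (hne : 𝒳.Nonempty) : Gen A (sSup 𝒳) := by
  obtain ⟨X₀, hX₀⟩ := hne
  refine ⟨(h X₀ hX₀).1.trans (le_sSup hX₀), ?_⟩
  set K := normalClosure ((A.subgroupOf (sSup 𝒳)) : Set ↥(sSup 𝒳)) with hK
  have key : sSup 𝒳 ≤ K.map (sSup 𝒳).subtype := by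
    refine sSup_le fun X hX x hx => ?_
    have hle : normalClosure ((A.subgroupOf X : Subgroup X) : Set X) ≤
        K.comap (Subgroup.inclusion (le_sSup hX)) :=
      normalClosure_le_normal fun a ha => subset_normalClosure
        (show Subgroup.inclusion (le_sSup hX) a ∈ A.subgroupOf (sSup 𝒳) from ha)
    rw [(h X hX).2] at hle
    exact ⟨_, hle (Subgroup.mem_top ⟨x, hx⟩), rfl⟩
  rw [eq_top_iff]
  intro y _
  obtain ⟨z, hz, e⟩ := key y.2
  exact (Subtype.ext e : z = y) ▸ hz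

variable [Finite G]

/-- The greatest subgroup of `K` generated by its conjugates of `A` is subnormal in `K`. -/
theorem exists_greatest (A : Subgroup G) : ∀ n : ℕ, ∀ K : Subgroup G, Nat.card K = n → A ≤ K →
    ∃ D, Gen A D ∧ D ≤ K ∧ (D.subgroupOf K).IsSubnormal ∧ ∀ X, Gen A X → X ≤ K → X ≤ D := by
  intro n
  induction n using Nat.strong_induction_on with
  | _ n ih =>
    intro K hn hAK
    set N := normalClosure ((A.subgroupOf K : Subgroup K) : Set K) with hNdef
    have hAN : A ≤ N.map K.subtype := fun a ha =>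
      ⟨⟨a, hAK ha⟩, subset_normalClosure (show (⟨a, hAK ha⟩ : K) ∈ A.subgroupOf K from ha), rfl⟩
    by_cases htop : N = ⊤
    · exact ⟨K, ⟨hAK, htop⟩, le_rfl, (by rw [subgroupOf_self]; exact Normal.isSubnormal inferInstance),
        fun X _ h => h⟩
    have hlt : N.map K.subtype < K := by
      refine lt_of_le_of_ne (map_subtype_le N) fun he => htop ?_
      apply map_injective K.subtype_injective
      rw [he, ← MonoidHom.range_eq_map, range_subtype]
    have hcard : Nat.card (N.map K.subtype) < n := hn ▸ lt_of_le_of_ne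
      (Nat.le_of_dvd Nat.card_pos (card_dvd_of_le hlt.le)) fun e =>
        hlt.ne (eq_of_le_of_card_ge hlt.le e.ge)
    obtain ⟨D, hD, hDN, hDsn, hmax⟩ := ih _ hcard _ rfl hAN
    refine ⟨D, hD, hDN.trans hlt.le, subgroupOf_trans hDN hlt.le hDsn ?_, fun X hX hXK => ?_⟩
    · rw [subgroupOf, comap_map_eq_self_of_injective K.subtype_injective]
      exact Normal.isSubnormal normalClosure_normal
    · refine hmax X hX fun x hx => ?_
      have hle : normalClosure ((A.subgroupOf X : Subgroup X) : Set X) ≤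
          N.comap (Subgroup.inclusion hXK) :=
        normalClosure_le_normal fun a ha => subset_normalClosure
          (show Subgroup.inclusion hXK a ∈ ((A.subgroupOf K : Subgroup K) : Set K) from ha)
      rw [hX.2] at hle
      exact ⟨_, hle (Subgroup.mem_top ⟨x, hx⟩), rfl⟩

/-- A join of finitely many subgroups subnormal in `K` is subnormal in `K`. -/
theorem sSup_isSubnormal_subgroupOf {K : Subgroup G} {𝒮 : Set (Subgroup G)}
    (h : ∀ B ∈ 𝒮, B ≤ K ∧ (B.subgroupOf K).IsSubnormal) :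
    sSup 𝒮 ≤ K ∧ ((sSup 𝒮).subgroupOf K).IsSubnormal := by
  induction 𝒮, Set.toFinite 𝒮 using Set.Finite.induction_on with
  | empty => rw [sSup_empty, bot_subgroupOf]; exact ⟨bot_le, IsSubnormal.bot⟩
  | @insert B s _ _ ih =>
    obtain ⟨h1, h2⟩ := ih fun C hC => h C (Set.mem_insert_of_mem _ hC)
    obtain ⟨h3, h4⟩ := h B (Set.mem_insert _ _)
    rw [sSup_insert]
    refine ⟨sup_le h3 h1, ?_⟩
    rw [subgroupOf_sup h3 h1]
    exact CfsgLib.Subnormal.isSubnormal_sup h4 h2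

/-- No counterexample is maximal. -/
theorem false_of_counterexample (A : Subgroup G) (hcl : normalClosure (A : Set G) = ⊤)
    (hY : joinGen A ≠ ⊤) (hAG : A ≠ ⊤) (hun : ¬ ∃! M : Subgroup G, IsCoatom M ∧ A ≤ M)
    (IH : ∀ A' : Subgroup G, Nat.card A < Nat.card A' → normalClosure (A' : Set G) = ⊤ → A' ≠ ⊤ →
      joinGen A' = ⊤ ∨ ∃! M : Subgroup G, IsCoatom M ∧ A' ≤ M) : False := by
  classical
  have hclmono : ∀ X : Subgroup G, A ≤ X → normalClosure (X : Set G) = ⊤ := fun X hX =>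
    top_le_iff.mp (hcl ▸ normalClosure_mono (show (A : Set G) ⊆ X from hX))
  set Y := joinGen A with hYdef
  have hleY : ∀ X, Gen A X → X ≠ ⊤ → X ≤ Y := fun X hX hne => le_sSup ⟨hX.1, hne, hX.2⟩
  have hgenY : Gen A Y :=
    gen_sSup (fun X hX => ⟨hX.1, hX.2.2⟩) ⟨A, le_rfl, hAG, (Gen.self A).2⟩
  have hnorm : ∀ X : Subgroup G, A ≤ X → X ≠ ⊤ → ¬ X.IsSubnormal := fun X hX hne hsn => by
    rcases hsn.lt_normal with h | ⟨K, hK, hle, hlt⟩
    · exact hne h
    · haveI := hK
      exact hlt.ne (top_le_iff.mp (hcl ▸ normalClosure_le_normal (show (A : Set G) ⊆ K from hX.trans hle)))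
  have hsubY : ∀ K, Y ≤ K → K ≠ ⊤ → (Y.subgroupOf K).IsSubnormal := fun K hK hKne => by
    obtain ⟨D, hD, hDK, hsn, hmax⟩ := exists_greatest A _ K rfl (hgenY.1.trans hK)
    have : D = Y := le_antisymm (hleY D hD fun h => hKne (top_le_iff.mp (h ▸ hDK)))
      (hmax Y hgenY hK)
    exact this ▸ hsn
  obtain ⟨M₀, ⟨hM₀, hYM₀⟩, huM₀⟩ := existsUnique_maximal hsubY (hnorm Y hgenY.1 hY)
  have hAM₀ : A ≤ M₀ := hgenY.1.trans hYM₀
  -- subnormality in the other maximal subgroups
  have hbad₀ : ∀ M, IsCoatom M → A ≤ M → M ≠ M₀ → (A.subgroupOf M).IsSubnormal := by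
    intro M hM hAM hne
    obtain ⟨D, hD, hDM, hsn, -⟩ := exists_greatest A _ M rfl hAM
    have hDne : D ≠ ⊤ := fun h => hM.1 (top_le_iff.mp (h ▸ hDM))
    rcases (Nat.le_of_dvd Nat.card_pos (card_dvd_of_le hD.1)).lt_or_eq with hlt | heq
    · exfalso
      have hJ : joinGen D ≤ Y := sSup_le fun X hX => hleY X (hD.trans ⟨hX.1, hX.2.2⟩) hX.2.1
      obtain ⟨M', -, hu⟩ := (IH D hlt (hclmono D hD.1) hDne).resolve_left fun h =>
        hY (top_le_iff.mp (h ▸ hJ))
      exact hne ((hu M ⟨hM, hDM⟩).trans (hu M₀ ⟨hM₀, (hleY D hD hDne).trans hYM₀⟩).symm)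
    · rwa [← eq_of_le_of_card_ge hD.1 heq.ge] at hsn
  -- the normalizer of `A`
  have hNA : ∀ n, cj n A = A → cj n M₀ = M₀ := by
    intro n hn
    have hg : Gen A (cj n Y) := by
      refine ⟨hn.symm.trans_le (cj_le_cj hgenY.1), ?_⟩
      let f : Y →* cj n Y := (equivMapOfInjective Y _ (MulAut.conj n).injective).toMonoidHom
      have hfs : Function.Surjective f :=
        (equivMapOfInjective Y _ (MulAut.conj n).injective).surjective
      rw [eq_top_iff, ← map_top_of_surjective f hfs, ← hgenY.2, map_normalClosure _ f hfs]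
      refine normalClosure_mono ?_
      rintro _ ⟨a, ha, rfl⟩
      show (MulAut.conj n) (a : G) ∈ A
      exact hn ▸ ⟨a, ha, rfl⟩
    have hne : cj n Y ≠ ⊤ := fun h => hY (cj_injective n (h.trans (cj_top n).symm))
    have he : cj n Y = Y := eq_of_le_of_card_ge (hleY _ hg hne) (card_cj n Y).ge
    exact huM₀ _ ⟨cj_isCoatom hM₀, he.symm.trans_le (cj_le_cj hYM₀)⟩
  have hM₀n : ∀ n, cj n M₀ = M₀ → n ∈ M₀ := by
    intro n hn
    have hle : normalizer (M₀ : Set G) ≤ M₀ := by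
      rcases (le_normalizer (H := M₀)).lt_or_eq with h | h
      · exact absurd (Normal.isSubnormal (normalizer_eq_top_iff.mp (hM₀.2 _ h)))
          (hnorm M₀ hAM₀ hM₀.1)
      · exact h.ge
    exact hle (mem_normalizer_of_cj_eq hn)
  -- the special maximal subgroup of a conjugate
  let T : Subgroup G → Subgroup G := fun B =>
    if h : ∃ g, cj g A = B then cj h.choose M₀ else ⊤
  have hT : ∀ g, T (cj g A) = cj g M₀ := by
    intro g
    have h : ∃ g', cj g' A = cj g A := ⟨g, rfl⟩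
    show (if h : ∃ g', cj g' A = cj g A then cj h.choose M₀ else ⊤) = _
    rw [dif_pos h]
    have h1 := hNA (g⁻¹ * h.choose) (by rw [← cj_cj, h.choose_spec, cj_inv_cancel])
    rw [← cj_cj] at h1
    calc cj h.choose M₀ = cj g (cj g⁻¹ (cj h.choose M₀)) := (cj_cancel_inv _ _).symm
      _ = cj g M₀ := by rw [h1]
  let Ω : Set (Subgroup G) := {B | ∃ g, cj g A = B}
  have hΩcj : ∀ B ∈ Ω, ∀ x, cj x B ∈ Ω ∧ T (cj x B) = cj x (T B) := by
    rintro _ ⟨g, rfl⟩ x
    rw [cj_cj, hT, hT, cj_cj]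
    exact ⟨⟨_, rfl⟩, rfl⟩
  have hTmax : ∀ B ∈ Ω, IsCoatom (T B) ∧ B ≤ T B := by
    rintro _ ⟨g, rfl⟩
    rw [hT]
    exact ⟨cj_isCoatom hM₀, cj_le_cj hAM₀⟩
  have hcard : ∀ B ∈ Ω, Nat.card B = Nat.card A := by
    rintro _ ⟨g, rfl⟩
    exact card_cj g A
  have hclΩ : ∀ B ∈ Ω, normalClosure (B : Set G) = ⊤ := by
    rintro _ ⟨g, rfl⟩
    rw [eq_top_iff, ← hcl]
    refine normalClosure_le_normal fun a ha => ?_
    have h := normalClosure_normal.conj_mem _ (subset_normalClosure (s := (cj g A : Set G))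
      ⟨a, ha, rfl⟩) g⁻¹
    simpa [mul_assoc] using h
  have hbad : ∀ B ∈ Ω, ∀ M, IsCoatom M → B ≤ M → M ≠ T B → (B.subgroupOf M).IsSubnormal := by
    rintro _ ⟨g, rfl⟩ M hM hBM hne
    rw [hT] at hne
    have hne' : cj g⁻¹ M ≠ M₀ := fun h => hne (by rw [← h, cj_cancel_inv])
    have h := subgroupOf_map (MulAut.conj g) (hbad₀ _ (cj_isCoatom hM)
      ((cj_inv_cancel g A).symm.trans_le (cj_le_cj hBM)) hne')
    rwa [show (cj g⁻¹ M).map (MulAut.conj g).toMonoidHom = M from cj_cancel_inv g M] at h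
  -- generated subgroups in two maximal subgroups
  have hgenpair : ∀ 𝒮 : Set (Subgroup G), 𝒮 ⊆ Ω → (∃ B ∈ 𝒮, ∃ C ∈ 𝒮, B ≠ C) →
      ∀ M₁ M₂ : Subgroup G, IsCoatom M₁ → IsCoatom M₂ → M₁ ≠ M₂ → sSup 𝒮 ≤ M₁ → sSup 𝒮 ≤ M₂ →
      ∃ B ∈ 𝒮, ∃ C ∈ 𝒮, sSup 𝒮 ≤ T B ∧ sSup 𝒮 ≤ T C ∧ T B ≠ T C := by
    intro 𝒮 h𝒮 ⟨B₀, hB₀, C₀, hC₀, hBC⟩ M₁ M₂ hM₁ hM₂ hne hV₁ hV₂
    by_contra hcon
    set V := sSup 𝒮
    have hB₀V : B₀ ≤ V := le_sSup hB₀
    have hlt : Nat.card A < Nat.card V := by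
      rw [← hcard _ (h𝒮 hB₀)]
      refine lt_of_le_of_ne (Nat.le_of_dvd Nat.card_pos (card_dvd_of_le hB₀V)) fun he => hBC ?_
      have h1 := eq_of_le_of_card_ge hB₀V he.ge
      exact (eq_of_le_of_card_ge ((le_sSup hC₀).trans h1.ge)
        (by rw [hcard _ (h𝒮 hB₀), hcard _ (h𝒮 hC₀)])).symm
    have hVcl : normalClosure (V : Set G) = ⊤ := top_le_iff.mp
      (hclΩ _ (h𝒮 hB₀) ▸ normalClosure_mono (show (B₀ : Set G) ⊆ V from hB₀V))
    rcases IH V hlt hVcl (fun h => hM₁.1 (top_le_iff.mp (h ▸ hV₁))) with hJ | ⟨M', -, hu⟩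
    · obtain ⟨M, hM, hall⟩ : ∃ M : Subgroup G, IsCoatom M ∧
          V ≤ M ∧ ∀ B ∈ 𝒮, V ≤ T B → T B = M := by
        by_cases h : ∃ B ∈ 𝒮, V ≤ T B
        · obtain ⟨B, hB, hVB⟩ := h
          refine ⟨T B, (hTmax B (h𝒮 hB)).1, hVB, fun C hC hVC => ?_⟩
          by_contra hne'
          exact hcon ⟨C, hC, B, hB, hVC, hVB, hne'⟩
        · exact ⟨M₁, hM₁, hV₁, fun B hB hVB => absurd ⟨B, hB, hVB⟩ h⟩
      refine hM.1 (top_le_iff.mp (hJ ▸ sSup_le fun X hX => ?_))
      obtain ⟨M', hM', hXM'⟩ := (eq_top_or_exists_le_coatom X).resolve_left hX.2.1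
      by_cases h : ∃ B ∈ 𝒮, M' = T B
      · obtain ⟨B, hB, rfl⟩ := h
        rw [← hall.2 B hB (hX.1.trans hXM')]
        exact hXM'
      · have hsn := (sSup_isSubnormal_subgroupOf (K := M') (𝒮 := 𝒮) fun B hB =>
          ⟨((le_sSup hB).trans hX.1).trans hXM', hbad B (h𝒮 hB) M' hM'
            (((le_sSup hB).trans hX.1).trans hXM') fun he => h ⟨B, hB, he⟩⟩).2
        have hVX := Gen.eq_of_isSubnormal (A := V) ⟨hX.1, hX.2.2⟩ le_rfl hX.1
          (subgroupOf_of_le hXM' hsn)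
        exact hVX ▸ hall.1
    · exact hne ((hu _ ⟨hM₁, hV₁⟩).trans (hu _ ⟨hM₂, hV₂⟩).symm)
  have hsym : ∀ B ∈ Ω, ∀ C ∈ Ω, ∀ M, IsCoatom M → B ≤ M → C ≤ M → T B ≠ M → T C ≠ M →
      C ≤ T B → B ≤ T C := by
    intro B hB C hC M hM hBM hCM hTB hTC hCB
    by_cases he : T B = T C
    · exact he ▸ (hTmax B hB).2
    have hle : ∀ Z : Subgroup G, B ≤ Z → C ≤ Z → sSup ({B, C} : Set (Subgroup G)) ≤ Z :=
      fun Z h1 h2 => sSup_le fun D hD => by rcases hD with rfl | rfl <;> assumption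
    obtain ⟨D, hD, E, hE, hVD, hVE, hDE⟩ := hgenpair {B, C}
      (fun D hD => by rcases hD with rfl | rfl <;> assumption)
      ⟨B, Or.inl rfl, C, Or.inr rfl, fun h => he (by rw [h])⟩ (T B) M (hTmax B hB).1 hM hTB
      (hle _ (hTmax B hB).2 hCB) (hle _ hBM hCM)
    have hBV : B ≤ sSup ({B, C} : Set (Subgroup G)) := le_sSup (Or.inl rfl)
    rcases hD with rfl | rfl
    · rcases hE with rfl | rfl
      · exact absurd rfl hDE
      · exact hBV.trans hVE
    · exact hBV.trans hVD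
  -- the number of conjugates in an intersection
  let S : Subgroup G × Subgroup G → Set (Subgroup G) := fun P => {B | B ∈ Ω ∧ B ≤ P.1 ∧ B ≤ P.2}
  let Prs : Set (Subgroup G × Subgroup G) :=
    {P | IsCoatom P.1 ∧ IsCoatom P.2 ∧ P.1 ≠ P.2 ∧ ∃ B ∈ S P, ∃ C ∈ S P, B ≠ C}
  obtain ⟨M, hM, hAM, hMne⟩ : ∃ M, IsCoatom M ∧ A ≤ M ∧ M ≠ M₀ := by
    by_contra hno
    exact hun ⟨M₀, ⟨hM₀, hAM₀⟩, fun M hM => by_contra fun hne => hno ⟨M, hM.1, hM.2, hne⟩⟩
  have hnM : ¬ M ≤ normalizer (A : Set G) := fun h => by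
    have hle : M ≤ M₀ := fun x hx => hM₀n x (hNA x (cj_eq_of_mem_normalizer (h hx)))
    exact hMne ((hM.le_iff_eq hM₀.1).mp hle).symm
  obtain ⟨x, hxM, hxne, hxle⟩ := exists_conj_le_normalizer hAM (hbad₀ M hM hAM hMne) hnM
  have hAΩ : A ∈ Ω := ⟨1, cj_one A⟩
  have hnePrs : Prs.Nonempty := by
    refine ⟨(M₀, M), hM₀, hM, fun h => hMne h.symm, A, ⟨hAΩ, hAM₀, hAM⟩, cj x A,
      ⟨⟨x, rfl⟩, ?_, ?_⟩, fun h => hxne h.symm⟩
    · exact fun y hy => hM₀n y (hNA y (cj_eq_of_mem_normalizer (hxle hy)))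
    · exact (cj_le_cj hAM).trans_eq (cj_of_mem hxM)
  obtain ⟨P, hP, hPmax⟩ := Set.exists_max_image Prs (fun P => (S P).ncard) (Set.toFinite _) hnePrs
  obtain ⟨hP₁, hP₂, hPne, hPtwo⟩ := hP
  set n := (S P).ncard with hn
  obtain ⟨B, hB, C, hC, hVB, hVC, hTne⟩ := hgenpair (S P) (fun D hD => hD.1) hPtwo P.1 P.2 hP₁ hP₂
    hPne (sSup_le fun D hD => hD.2.1) (sSup_le fun D hD => hD.2.2)
  have hmax : ∀ Q R, IsCoatom Q → IsCoatom R → Q ≠ R → (∃ D ∈ S (Q, R), ∃ E ∈ S (Q, R), D ≠ E) →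
      (S (Q, R)).ncard ≤ n := fun Q R h1 h2 h3 h4 => hPmax _ ⟨h1, h2, h3, h4⟩
  have key : ∀ B C : Subgroup G, B ∈ S P → C ∈ S P → sSup (S P) ≤ T B → sSup (S P) ≤ T C →
      T B ≠ T C → ∀ M₄ : Subgroup G, IsCoatom M₄ → normalizer ((sSup (S P) : Subgroup G) : Set G) ≤ M₄ →
      M₄ = T B := by
    intro B C hB hC hVB hVC hne M₄ hM₄ hNV
    set V := sSup (S P) with hVdef
    set Q := T C
    set R := T B
    have hQ : IsCoatom Q := (hTmax C hC.1).1
    have hR : IsCoatom R := (hTmax B hB.1).1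
    have hCQ : C ≤ Q := (hTmax C hC.1).2
    let Sa : Set (Subgroup G) := {D | D ∈ S P ∧ T D ≠ R}
    set Va := sSup Sa with hVa
    have hVaV : Va ≤ V := sSup_le_sSup fun D hD => hD.1
    have hCa : C ∈ Sa := ⟨hC, fun h => hne h.symm⟩
    have hBCne : B ≠ C := fun h => hne (by show T B = T C; rw [h])
    have hVasn : (Va.subgroupOf R).IsSubnormal := (sSup_isSubnormal_subgroupOf fun D hD =>
      ⟨(le_sSup hD.1).trans hVB, hbad D hD.1.1 R hR ((le_sSup hD.1).trans hVB)
        fun h => hD.2 h.symm⟩).2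
    have hclaim : ∀ u ∈ R, u ∈ normalizer (Va : Set G) → u ∈ normalizer (V : Set G) := by
      intro u huR hu
      have hVau : cj u Va = Va := cj_eq_of_mem_normalizer hu
      have hRu : cj u R = R := cj_of_mem huR
      obtain ⟨hCuΩ, hTCu⟩ := hΩcj C hC.1 u
      have hCuVa : cj u C ≤ Va := (cj_le_cj (le_sSup hCa)).trans_eq hVau
      have hTCuR : T (cj u C) ≠ R := by
        rw [hTCu]
        intro h
        exact hne (cj_injective u (hRu.trans h.symm))
      have hall : ∀ D ∈ S P, D ≤ T (cj u C) := by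
        intro D hD
        by_cases hDR : T D = R
        · by_cases hQe : T (cj u C) = Q
          · rw [hQe]; exact (le_sSup hD).trans hVC
          exact hsym D hD.1 _ hCuΩ Q hQ ((le_sSup hD).trans hVC) ((hCuVa.trans hVaV).trans hVC)
            (hDR.trans_ne hne) hQe (((hCuVa.trans hVaV).trans hVB).trans hDR.ge)
        · calc D ≤ Va := le_sSup ⟨hD, hDR⟩
            _ = cj u Va := hVau.symm
            _ ≤ cj u Q := cj_le_cj (hVaV.trans hVC)
            _ = T (cj u C) := hTCu.symm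
      have himg : S (R, cj u Q) = (cj u) '' S (R, Q) := by
        ext D
        constructor
        · rintro ⟨hD, hDR, hDQ⟩
          refine ⟨cj u⁻¹ D, ⟨(hΩcj D hD u⁻¹).1, ?_, le_cj_iff.mp hDQ⟩, cj_cancel_inv u D⟩
          exact le_cj_iff.mp (hDR.trans_eq hRu.symm)
        · rintro ⟨E, ⟨hE, hER, hEQ⟩, rfl⟩
          exact ⟨(hΩcj E hE u).1, (cj_le_cj hER).trans_eq hRu, cj_le_cj hEQ⟩
      have hsub₀ : S P ⊆ S (R, Q) := fun D hD =>
        ⟨hD.1, (le_sSup hD).trans hVB, (le_sSup hD).trans hVC⟩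
      have hS₀ : S (R, Q) = S P := (Set.eq_of_subset_of_ncard_le hsub₀
        (hmax R Q hR hQ hne ⟨B, hsub₀ hB, C, hsub₀ hC, hBCne⟩) (Set.toFinite _)).symm
      have hsub : S P ⊆ S (R, cj u Q) := fun D hD =>
        ⟨hD.1, (le_sSup hD).trans hVB, (hall D hD).trans_eq hTCu⟩
      have heq : S P = (cj u) '' S P := by
        refine Set.eq_of_subset_of_ncard_le ?_ ?_ (Set.toFinite _)
        · rw [← hS₀, ← himg, hS₀]; exact hsub
        · rw [Set.ncard_image_of_injective _ (cj_injective u)]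
      have hle : cj u V ≤ V := by
        rw [cj, map_le_iff_le_comap, hVdef]
        refine sSup_le fun D hD => ?_
        rw [← map_le_iff_le_comap]
        exact le_sSup (heq.ge ⟨D, hD, rfl⟩)
      exact mem_normalizer_of_cj_eq (eq_of_le_of_card_ge hle (card_cj u V).ge)
    by_contra hM₄R
    by_cases hn' : R ≤ normalizer (Va : Set G)
    · exact hM₄R ((hR.le_iff_eq hM₄.1).mp fun u hu => hNV (hclaim u hu (hn' hu)))
    obtain ⟨x, hxR, hxne, hxle⟩ := exists_conj_le_normalizer (hVaV.trans hVB) hVasn hn'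
    obtain ⟨D, hD, hDnot⟩ : ∃ D ∈ Sa, ¬ cj x D ≤ Va := by
      by_contra h
      simp only [not_exists, not_and, not_not] at h
      refine hxne (eq_of_le_of_card_ge ?_ (card_cj x Va).ge)
      rw [map_le_iff_le_comap, hVa]
      exact sSup_le fun D hD => map_le_iff_le_comap.mp (h D hD)
    have hER : cj x D ≤ R := (cj_le_cj ((le_sSup hD.1).trans hVB)).trans_eq (cj_of_mem hxR)
    have hEM₄ : cj x D ≤ M₄ := fun y hy =>
      hNV (hclaim y (hER hy) (hxle (cj_le_cj (le_sSup hD) hy)))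
    have hES : cj x D ∉ S P := by
      intro hE
      refine hDnot (le_sSup (show cj x D ∈ Sa from ⟨hE, ?_⟩))
      rw [(hΩcj D hD.1.1 x).2]
      intro h
      exact hD.2 (cj_injective x (h.trans (cj_of_mem hxR).symm))
    have hsub : insert (cj x D) (S P) ⊆ S (R, M₄) := by
      rintro E (rfl | hE)
      · exact ⟨(hΩcj D hD.1.1 x).1, hER, hEM₄⟩
      · exact ⟨hE.1, (le_sSup hE).trans hVB,
          (le_sSup hE).trans (le_normalizer.trans hNV)⟩
    have h1 := Set.ncard_le_ncard hsub (Set.toFinite _)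
    rw [Set.ncard_insert_of_notMem hES (Set.toFinite _), ← hn] at h1
    have h2 := hmax R M₄ hR hM₄ (fun h => hM₄R h.symm)
      ⟨B, hsub (Or.inr hB), C, hsub (Or.inr hC), hBCne⟩
    omega
  have hNV : normalizer ((sSup (S P) : Subgroup G) : Set G) ≠ ⊤ := by
    intro h
    have hN := normalizer_eq_top_iff.mp h
    haveI := hN
    exact hP₁.1 (top_le_iff.mp ((hclΩ B hB.1).ge.trans ((normalClosure_le_normal
      (show (B : Set G) ⊆ ((sSup (S P) : Subgroup G) : Set G) from fun y hy => le_sSup hB hy)).trans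
      (sSup_le fun D hD => hD.2.1))))
  obtain ⟨M₄, hM₄, hle⟩ := (eq_top_or_exists_le_coatom _).resolve_left hNV
  exact hTne ((key B C hB hC hVB hVC hTne M₄ hM₄ hle).symm.trans
    (key C B hC hB hVC hVB hTne.symm M₄ hM₄ hle))

/-- The dichotomy. -/
theorem joinGen_eq_top_or_existsUnique (A : Subgroup G) (hA : normalClosure (A : Set G) = ⊤)
    (hAG : A ≠ ⊤) : joinGen A = ⊤ ∨ ∃! M : Subgroup G, IsCoatom M ∧ A ≤ M := by
  suffices ∀ n : ℕ, ∀ A : Subgroup G, Nat.card G - Nat.card A = n →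
      normalClosure (A : Set G) = ⊤ → A ≠ ⊤ →
      joinGen A = ⊤ ∨ ∃! M : Subgroup G, IsCoatom M ∧ A ≤ M from this _ A rfl hA hAG
  intro n
  induction n using Nat.strong_induction_on with
  | _ n ih =>
    intro A hn hA hAG
    by_contra h
    rw [not_or] at h
    refine false_of_counterexample A hA h.1 hAG h.2 fun A' hlt => ih _ ?_ A' rfl
    have := Nat.le_of_dvd Nat.card_pos A'.card_subgroup_dvd_card
    omega

end CfsgLib.JoinOrUnique
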